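import Groth.Agent.ProjBd.K716.Chart
import Groth.Agent.ProjBd.K716.VB

/-!
# The complement of a split sub-bundle of a projective bundle is a vector bundle
-/

set_option autoImplicit false
universe u
open CategoryTheory CategoryTheory.Limits AlgebraicGeometry TopologicalSpace Opposite

namespace K716.Compl

open Groth.Agent.Sga67.Sec Groth.Agent.Sga67.LocBasis
open Groth.Agent.Krr.H487.LocBasisPull Groth.Agent.Krr.H496.GenLocus Groth.Agent.Krr.H496.ProjCrit

variable {X P PA W T T' : Scheme.{u}} {E : X.Modules}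

/-- The generator locus of the sections attached to a pulled back quotient. -/
theorem genLocus_sg_bc (k : T' ⟶ T) {g : T ⟶ X} {g' : T' ⟶ X} (hk : k ≫ g = g')
    {L : T.Modules} (hL : IsInv L) (s : (Scheme.Modules.pullback g).obj E ⟶ L) {U : X.Opens} {n : ℕ}
    (e : Fin n → Sec E U) (j : Fin n) : genLocus (sg (bc k s hk) e j) = k ⁻¹ᵁ genLocus (sg s e j) := by
  subst hk
  rw [sg_bc]
  exact genLocus_pbS k hL (sg s e j)

theorem genLocus_sg_comp {g : T ⟶ X} {L L' : T.Modules} (s : (Scheme.Modules.pullback g).obj E ⟶ L)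
    (v : L ≅ L') {U : X.Opens} {n : ℕ} (e : Fin n → Sec E U) (j : Fin n) :
    genLocus (sg (s ≫ v.hom) e j) = genLocus (sg s e j) :=
  genLocus_appS v (sg s e j)

/-- A section which is zero generates nowhere. -/
theorem genLocus_eq_bot {L : T.Modules} {V : T.Opens} {σ : Sec L V} (h : σ = 0) : genLocus σ = ⊥ := by
  rw [eq_bot_iff]
  intro x hx
  obtain ⟨W', hW', hx', hg⟩ := mem_genLocus.1 hx
  rw [h, map_zero] at hg
  have h1 : (1 : Γ(T, W')) = 0 := by
    refine hg.smul_injective ?_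
    rw [smul_zero, smul_zero]
  have h2 : T.basicOpen (1 : Γ(T, W')) = W' := Scheme.basicOpen_of_isUnit _ isUnit_one
  rw [h1, Scheme.basicOpen_zero] at h2
  rw [← h2] at hx'
  exact hx'

/-- The algebra of the main theorem. -/
theorem bijective_of_bijective {R A B D : Type*} [CommRing R] [CommRing A] [CommRing B] [CommRing D]
    {m n : ℕ} {k : Fin m} (f : R →+* A) (g : R →+* D) (h : A →+* B) (ρ : D →+* B)
    (aA : Fin m → A) (aD : Fin (m + n) → D) (t : Fin n → B)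
    (hA : Function.Surjective (MvPolynomial.eval₂Hom f (fun i : {i : Fin m // i ≠ k} => aA i)))
    (hD : Function.Bijective (MvPolynomial.eval₂Hom g
      (fun i : {i : Fin (m + n) // i ≠ finSumFinEquiv (Sum.inl k)} => aD i)))
    (hρ : Function.Bijective ρ) (h1 : h.comp f = ρ.comp g)
    (h2 : ∀ i, h (aA i) = ρ (aD (finSumFinEquiv (Sum.inl i))))
    (h3 : ∀ i, t i = ρ (aD (finSumFinEquiv (Sum.inr i)))) :
    Function.Bijective (MvPolynomial.eval₂Hom h t) := by
  let G := MvPolynomial.eval₂Hom h t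
  let y : Fin m ⊕ Fin n → MvPolynomial (Fin n) A := Sum.elim (fun i => MvPolynomial.C (aA i)) MvPolynomial.X
  let Θ : MvPolynomial {i : Fin (m + n) // i ≠ finSumFinEquiv (Sum.inl k)} R →+* MvPolynomial (Fin n) A :=
    MvPolynomial.eval₂Hom (MvPolynomial.C.comp f) (fun i => y (finSumFinEquiv.symm i.1))
  have hGy : ∀ s : Fin m ⊕ Fin n, G (y s) = ρ (aD (finSumFinEquiv s)) := by
    rintro (i | i)
    · change G (MvPolynomial.C (aA i)) = _
      rw [MvPolynomial.eval₂Hom_C, h2]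
    · change G (MvPolynomial.X i) = _
      rw [MvPolynomial.eval₂Hom_X', h3]
  have hGΘ : G.comp Θ = ρ.comp (MvPolynomial.eval₂Hom g
      (fun i : {i : Fin (m + n) // i ≠ finSumFinEquiv (Sum.inl k)} => aD i)) := by
    apply MvPolynomial.ringHom_ext
    · intro r
      simp only [RingHom.comp_apply, Θ, MvPolynomial.eval₂Hom_C, G]
      exact congr($h1 r)
    · intro i
      simp only [RingHom.comp_apply, Θ, MvPolynomial.eval₂Hom_X']
      rw [hGy, Equiv.apply_symm_apply]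
  have hb : Function.Bijective (G.comp Θ) := by
    rw [hGΘ]
    exact hρ.comp hD
  have hΘ : Function.Surjective Θ := by
    have hC : ∀ a : A, ∃ p, Θ p = MvPolynomial.C a := by
      intro a
      obtain ⟨p, rfl⟩ := hA a
      have hne : ∀ i : {i : Fin m // i ≠ k}, (finSumFinEquiv (Sum.inl i.1) : Fin (m + n)) ≠ finSumFinEquiv (Sum.inl k) :=
        fun i h => i.2 (Sum.inl_injective (finSumFinEquiv.injective h))
      let ι : {i : Fin m // i ≠ k} → {i : Fin (m + n) // i ≠ finSumFinEquiv (Sum.inl k)} :=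
        fun i => ⟨finSumFinEquiv (Sum.inl i.1), hne i⟩
      have h5 : Θ.comp (MvPolynomial.rename (R := R) ι).toRingHom =
          MvPolynomial.C.comp (MvPolynomial.eval₂Hom f (fun i : {i : Fin m // i ≠ k} => aA i)) := by
        apply MvPolynomial.ringHom_ext
        · intro r
          rw [RingHom.comp_apply, RingHom.comp_apply, MvPolynomial.eval₂Hom_C]
          change Θ (MvPolynomial.rename ι (MvPolynomial.C r)) = _
          rw [MvPolynomial.rename_C]
          exact MvPolynomial.eval₂Hom_C _ _ _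
        · intro i
          rw [RingHom.comp_apply, RingHom.comp_apply, MvPolynomial.eval₂Hom_X']
          change Θ (MvPolynomial.rename ι (MvPolynomial.X i)) = _
          rw [MvPolynomial.rename_X]
          refine (MvPolynomial.eval₂Hom_X' _ _ _).trans ?_
          change y (finSumFinEquiv.symm (finSumFinEquiv (Sum.inl i.1))) = _
          rw [Equiv.symm_apply_apply]
          rfl
      exact ⟨MvPolynomial.rename ι p, congr($h5 p)⟩
    intro p
    induction p using MvPolynomial.induction_on with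
    | C a => exact hC a
    | add p q hp hq =>
      obtain ⟨p', rfl⟩ := hp
      obtain ⟨q', rfl⟩ := hq
      exact ⟨p' + q', map_add _ _ _⟩
    | mul_X p i hp =>
      obtain ⟨p', rfl⟩ := hp
      have hne : (finSumFinEquiv (Sum.inr i) : Fin (m + n)) ≠ finSumFinEquiv (Sum.inl k) :=
        fun h => Sum.inr_ne_inl (finSumFinEquiv.injective h)
      refine ⟨p' * MvPolynomial.X ⟨finSumFinEquiv (Sum.inr i), hne⟩, ?_⟩
      rw [map_mul]
      congr 1
      refine (MvPolynomial.eval₂Hom_X' _ _ _).trans ?_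
      change y (finSumFinEquiv.symm (finSumFinEquiv (Sum.inr i))) = _
      rw [Equiv.symm_apply_apply]
      rfl
  refine ⟨?_, fun z => ?_⟩
  · intro p p' hpp
    obtain ⟨u, rfl⟩ := hΘ p
    obtain ⟨u', rfl⟩ := hΘ p'
    rw [hb.1 hpp]
  · obtain ⟨u, hu⟩ := hb.2 z
    exact ⟨Θ u, hu⟩

open Groth.Agent.Krr.H484.PullExt in
open Groth.Agent.Fdesc.LocGen (pullSec app_res res_res pullback_map_pullSec) in
/-- Transport of a morphism along a commutative square, on pulled back sections. -/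
theorem app_tr {πA : PA ⟶ X} {β : W ⟶ PA} {i : W ⟶ P} {π : P ⟶ X} (hβ : β ≫ πA = i ≫ π) {A' : X.Modules}
    {O1 : P.Modules} (r : (Scheme.Modules.pullback π).obj A' ⟶ O1) {V : X.Opens} (m : Γ(A', V)) :
    ((Scheme.Modules.pullbackComp β πA).hom.app A' ≫ (Scheme.Modules.pullbackCongr hβ).hom.app A' ≫
      (Scheme.Modules.pullbackComp i π).inv.app A' ≫ (Scheme.Modules.pullback i).map r).app
        (β ⁻¹ᵁ (πA ⁻¹ᵁ V)) (pullSec β (pullSec πA m)) =
      Groth.Agent.Fdesc.LocGen.res ((Scheme.Modules.pullback i).obj O1)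
        (preimage_le hβ V : (β ≫ πA) ⁻¹ᵁ V ≤ (i ≫ π) ⁻¹ᵁ V) (pullSec i (r.app (π ⁻¹ᵁ V) (pullSec π m))) := by
  have h1 := comp_hom_pullSec β πA m
  have h2 := congr_pullSec hβ m
  have h3 := comp_inv_pullSec i π m
  have h4 := pullback_map_pullSec i r (pullSec π m)
  have e1 : ∀ z : Γ((Scheme.Modules.pullback (β ≫ πA)).obj A', β ⁻¹ᵁ (πA ⁻¹ᵁ V)), z = pullSec (β ≫ πA) m →
      ((Scheme.Modules.pullback i).map r).app (β ⁻¹ᵁ (πA ⁻¹ᵁ V)) (((Scheme.Modules.pullbackComp i π).inv.app A').app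
        (β ⁻¹ᵁ (πA ⁻¹ᵁ V)) (((Scheme.Modules.pullbackCongr hβ).hom.app A').app (β ⁻¹ᵁ (πA ⁻¹ᵁ V)) z)) =
      Groth.Agent.Fdesc.LocGen.res ((Scheme.Modules.pullback i).obj O1)
        (preimage_le hβ V : (β ≫ πA) ⁻¹ᵁ V ≤ (i ≫ π) ⁻¹ᵁ V) (pullSec i (r.app (π ⁻¹ᵁ V) (pullSec π m))) := by
    rintro z rfl
    have h5 : ((Scheme.Modules.pullbackCongr hβ).hom.app A').app (β ⁻¹ᵁ (πA ⁻¹ᵁ V)) (pullSec (β ≫ πA) m) =
        Groth.Agent.Fdesc.LocGen.res ((Scheme.Modules.pullback (i ≫ π)).obj A')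
          (preimage_le hβ V : (β ≫ πA) ⁻¹ᵁ V ≤ (i ≫ π) ⁻¹ᵁ V) (pullSec (i ≫ π) m) := h2
    refine (congrArg (fun t => ((Scheme.Modules.pullback i).map r).app (β ⁻¹ᵁ (πA ⁻¹ᵁ V))
      (((Scheme.Modules.pullbackComp i π).inv.app A').app (β ⁻¹ᵁ (πA ⁻¹ᵁ V)) t)) h5).trans ?_
    refine (congrArg (((Scheme.Modules.pullback i).map r).app (β ⁻¹ᵁ (πA ⁻¹ᵁ V)))
      (app_res ((Scheme.Modules.pullbackComp i π).inv.app A')
        (preimage_le hβ V : (β ≫ πA) ⁻¹ᵁ V ≤ (i ≫ π) ⁻¹ᵁ V) (pullSec (i ≫ π) m))).trans ?_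
    refine (app_res ((Scheme.Modules.pullback i).map r)
      (preimage_le hβ V : (β ≫ πA) ⁻¹ᵁ V ≤ (i ≫ π) ⁻¹ᵁ V) _).trans ?_
    exact congrArg _ ((congrArg _ h3).trans h4)
  exact e1 _ h1

/-- Local bases of two finite locally free modules near a point, on an affine open. -/
theorem exists_affine_bases {A B : X.Modules} (hA : FlatMod.IsFinLocFree A) (hB : FlatMod.IsFinLocFree B) (x : X) :
    ∃ (U : X.Opens) (_ : IsAffineOpen U) (m n : ℕ) (a : Fin m → Sec A U) (b : Fin n → Sec B U), x ∈ U ∧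
      IsLocBasis a ∧ IsLocBasis b := by
  obtain ⟨U₁, m, hx₁, h₁⟩ := hA x
  obtain ⟨a, ha⟩ := nonempty_restrict_iso_iff.1 h₁
  obtain ⟨U₂, n, hx₂, h₂⟩ := hB x
  obtain ⟨b, hb⟩ := nonempty_restrict_iso_iff.1 h₂
  obtain ⟨U, hU, hxU, hle⟩ := exists_isAffineOpen_mem_and_subset (x := x) (U := U₁ ⊓ U₂) ⟨hx₁, hx₂⟩
  exact ⟨U, hU, m, n, _, _, hxU, ha.restrict (fun y hy => (hle hy).1), hb.restrict (fun y hy => (hle hy).2)⟩

section Main

variable {PB : Scheme.{u}} {S : ShortComplex X.Modules} {π : P ⟶ X} {O1 : P.Modules}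
  {q : (Scheme.Modules.pullback π).obj S.X₂ ⟶ O1}
  {πB : PB ⟶ X} {O1B : PB.Modules} {qB : (Scheme.Modules.pullback πB).obj S.X₃ ⟶ O1B}

/-- The sections of `A` generate nowhere on `P(B)`. -/
theorem notMem_range (hP : KRR.IsProjBundle π S.X₂ O1 q)
    {c : PB ⟶ P} (hc : c ≫ π = πB) (ec : (Scheme.Modules.pullback c).obj O1 ≅ O1B)
    (hcq : (Scheme.Modules.pullbackCongr hc).inv.app S.X₂ ≫ (Scheme.Modules.pullbackComp c π).inv.app S.X₂ ≫
      (Scheme.Modules.pullback c).map q ≫ ec.hom = (Scheme.Modules.pullback πB).map S.g ≫ qB)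
    {U : X.Opens} (a : Sec S.X₁ U) {w : P} (hw : w ∈ genLocus (appS q (π ⁻¹ᵁ U) (pbS π S.X₂ (appS S.f U a)))) :
    w ∉ Set.range c := by
  rintro ⟨y, rfl⟩
  subst hc
  have hinv : IsInv O1 := isInv_iff.2 hP.invertible
  let σ : Sec O1 (π ⁻¹ᵁ U) := appS q (π ⁻¹ᵁ U) (pbS π S.X₂ (appS S.f U a))
  have h1 : y ∈ genLocus (L := (Scheme.Modules.pullback c).obj O1) (V := c ⁻¹ᵁ (π ⁻¹ᵁ U)) (pbS c O1 σ) := by
    rw [genLocus_pbS c hinv σ]
    exact hw
  have h2 : bc c q rfl ≫ ec.hom = (Scheme.Modules.pullback (c ≫ π)).map S.g ≫ qB := by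
    rw [← hcq]
    simp only [bc, Category.assoc]
  have h3 : appS ec.hom (c ⁻¹ᵁ (π ⁻¹ᵁ U)) (pbS c O1 σ) = 0 := by
    have h4 := appS_bc c q (appS S.f U a)
    have h5 : appS ec.hom ((c ≫ π) ⁻¹ᵁ U) (appS (bc c q rfl) ((c ≫ π) ⁻¹ᵁ U) (pbS (c ≫ π) S.X₂ (appS S.f U a))) = 0 := by
      rw [← appS_comp, h2, appS_comp, appS_pbS, ← appS_comp, S.zero, appS_zero, map_zero, map_zero]
    rw [h4] at h5
    exact h5
  have h6 := genLocus_appS ec (pbS c O1 σ)
  rw [genLocus_eq_bot h3] at h6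
  rw [← h6] at h1
  exact h1

variable {W : P.Opens} {πA : PA ⟶ X} {O1A : PA.Modules} {qA : (Scheme.Modules.pullback πA).obj S.X₁ ⟶ O1A}
  {β : (W : Scheme.{u}) ⟶ PA} (hβ : β ≫ πA = W.ι ≫ π)
  (eβ : (Scheme.Modules.pullback β).obj O1A ≅ (Scheme.Modules.pullback W.ι).obj O1)

/-- The morphism `β^* π_A^* B ⟶ β^* O_A(1)` attached to a section `τ` of `E ⟶ B`. -/
noncomputable def wmap (q : (Scheme.Modules.pullback π).obj S.X₂ ⟶ O1) (τ : S.X₃ ⟶ S.X₂) :
    (Scheme.Modules.pullback β).obj ((Scheme.Modules.pullback πA).obj S.X₃) ⟶ (Scheme.Modules.pullback β).obj O1A :=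
  ((Scheme.Modules.pullbackComp β πA).hom.app S.X₃ ≫ (Scheme.Modules.pullbackCongr hβ).hom.app S.X₃ ≫
    (Scheme.Modules.pullbackComp W.ι π).inv.app S.X₃ ≫ (Scheme.Modules.pullback W.ι).map
      ((Scheme.Modules.pullback π).map τ ≫ q)) ≫ eβ.inv

theorem local_data (hS : S.ShortExact) (hA : FlatMod.IsFinLocFree S.X₁) (hB : FlatMod.IsFinLocFree S.X₃)
    (τ : S.X₃ ⟶ S.X₂) (hτ : τ ≫ S.g = 𝟙 _)
    (hP : KRR.IsProjBundle π S.X₂ O1 q) (hPA : KRR.IsProjBundle πA S.X₁ O1A qA)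
    {c : PB ⟶ P} (hc : c ≫ π = πB) (ec : (Scheme.Modules.pullback c).obj O1 ≅ O1B)
    (hcq : (Scheme.Modules.pullbackCongr hc).inv.app S.X₂ ≫ (Scheme.Modules.pullbackComp c π).inv.app S.X₂ ≫
      (Scheme.Modules.pullback c).map q ≫ ec.hom = (Scheme.Modules.pullback πB).map S.g ≫ qB)
    (hW : (W : Set P)ᶜ = Set.range c)
    (hβq : bc β qA hβ ≫ eβ.hom = bc W.ι ((Scheme.Modules.pullback π).map S.f ≫ q) rfl) (y : PA) :
    ∃ (V : PA.Opens) (_ : IsAffineOpen V) (n : ℕ) (l : Γ(O1A, V))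
      (b : Fin n → Sec ((Scheme.Modules.pullback πA).obj S.X₃) V)
      (t : Fin n → Γ(W, β ⁻¹ᵁ V)), y ∈ V ∧ Groth.Agent.Fdesc.LocGen.IsGen l ∧ IsLocBasis b ∧ IsAffineOpen (β ⁻¹ᵁ V) ∧
      (∀ i, (wmap hβ eβ q τ).app (β ⁻¹ᵁ V) (Groth.Agent.Fdesc.LocGen.pullSec β (b i)) =
        t i • Groth.Agent.Fdesc.LocGen.pullSec β l) ∧
      Function.Bijective (MvPolynomial.eval₂Hom (β.app V).hom t) := by
  have hinv : IsInv O1 := isInv_iff.2 hP.invertible
  have hinvA : IsInv O1A := isInv_iff.2 hPA.invertible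
  obtain ⟨U, hU, m, n, a, b, hxU, ha, hb⟩ := exists_affine_bases hA hB (πA y)
  have hqA : Epi qA := hPA.epi
  obtain ⟨k, hk⟩ := exists_mem_genLocus hinvA qA (isLocBasis_pbS πA ha) (x := y) hxU
  -- the chart of `P(A)`
  obtain ⟨aA, haA⟩ := exists_coordOn (s := qA) (e := a) (j := k) (W := genLocus (sg qA a k)) le_rfl
  obtain ⟨hVaff, hVbij⟩ := Chart.isAffineOpen_genLocus hU hinvA (Chart.chartCond hPA ha k) haA
  -- the chart of `P(E)`
  let b' : Fin n → Sec S.X₂ U := fun i => appS τ U (b i)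
  have hb' : ∀ i, appS S.g U (b' i) = b i := fun i => by
    rw [← appS_comp, hτ]; rfl
  let e : Fin (m + n) → Sec S.X₂ U := Sum.elim (fun i => appS S.f U (a i)) b' ∘ finSumFinEquiv.symm
  have he : IsLocBasis e := (isLocBasis_extension hS ha hb b' hb').reindex finSumFinEquiv.symm
  have hel : ∀ i, e (finSumFinEquiv (Sum.inl i)) = appS S.f U (a i) := fun i => by
    simp [e]
  have her : ∀ i, e (finSumFinEquiv (Sum.inr i)) = b' i := fun i => by
    simp [e]
  let k' : Fin (m + n) := finSumFinEquiv (Sum.inl k)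
  obtain ⟨aD, haD⟩ := exists_coordOn (s := q) (e := e) (j := k') (W := genLocus (sg q e k')) le_rfl
  obtain ⟨hDaff, hDbij⟩ := Chart.isAffineOpen_genLocus hU hinv (Chart.chartCond hP he k') haD
  have hsg : ∀ i, sg ((Scheme.Modules.pullback π).map S.f ≫ q) a i = sg q e (finSumFinEquiv (Sum.inl i)) := by
    intro i
    rw [sg, sg, hel, appS_comp, appS_pbS]
  -- comparison of the opens
  have hVD : β ⁻¹ᵁ genLocus (sg qA a k) = W.ι ⁻¹ᵁ genLocus (sg q e k') := by
    have h1 := genLocus_sg_bc β hβ hinvA qA a k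
    have h2 := genLocus_sg_comp (bc β qA hβ) eβ a k
    rw [hβq] at h2
    have h3 := genLocus_sg_bc W.ι rfl hinv ((Scheme.Modules.pullback π).map S.f ≫ q) a k
    rw [← h1, ← h2, h3, hsg]
  have hDW : genLocus (sg q e k') ≤ W := by
    intro w hw
    by_contra hwW
    have h1 : w ∈ Set.range c := by
      rw [← hW]
      exact hwW
    refine notMem_range hP hc ec hcq (a k) ?_ h1
    rw [sg, hel] at hw
    exact hw
  have hk' : y ∈ genLocus (sg qA a k) := hk
  generalize hDdef : genLocus (sg q e k') = D at *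
  generalize hVdef : genLocus (sg qA a k) = V at *
  have hle : β ⁻¹ᵁ V ≤ W.ι ⁻¹ᵁ D := hVD.le
  let ρ : Γ(P, D) ⟶ Γ(W, β ⁻¹ᵁ V) := W.ι.appLE D (β ⁻¹ᵁ V) hle
  have hρ : Function.Bijective ρ := by
    have h1 : ∀ (V' : (W : Scheme.{u}).Opens) (h : V' ≤ W.ι ⁻¹ᵁ D), V' = W.ι ⁻¹ᵁ D →
        Function.Bijective (W.ι.appLE D V' h) := by
      rintro V' h rfl
      have h2 : IsIso (W.ι.app D) := W.ι.isIso_app D (by rw [Scheme.Opens.opensRange_ι]; exact hDW)
      rw [Scheme.Hom.appLE_eq_app]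
      exact ConcreteCategory.bijective_of_isIso _
    exact h1 _ _ hVD
  refine ⟨V, hVaff, n, Groth.Agent.Sga67.Sec.res O1A haA.le (sg qA a k),
    fun i => Groth.Agent.Sga67.Sec.res _ haA.le (pbS πA S.X₃ (b i)),
    fun i => ρ (aD (finSumFinEquiv (Sum.inr i))), hk', isGen_iff.1 haA.gen, (isLocBasis_pbS πA hb).restrict haA.le,
    ?_, ?_, ?_⟩
  · rw [hVD]
    exact hDaff.preimage_of_isOpenImmersion W.ι (by rw [Scheme.Opens.opensRange_ι]; exact hDW)
  · intro i
    have E1 : eβ.hom.app (β ⁻¹ᵁ V) (Groth.Agent.Fdesc.LocGen.pullSec β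
        (Groth.Agent.Sga67.Sec.res O1A haA.le (sg qA a k))) =
        Groth.Agent.Sga67.Sec.res _ (hle.trans (W.ι.preimage_mono haD.le)) (pbS W.ι O1 (sg q e k')) := by
      have h1 : (Scheme.Modules.pullbackCongr hβ).inv.app S.X₁ ≫ (Scheme.Modules.pullbackComp β πA).inv.app S.X₁ ≫
          (Scheme.Modules.pullback β).map qA ≫ eβ.hom = bc W.ι ((Scheme.Modules.pullback π).map S.f ≫ q) rfl := by
        rw [← hβq]
        simp only [bc, Category.assoc]
      have h2 := (Groth.Agent.Krr.H484.PullExt.compat_iff _ _ _ _ _ _ _).1 h1 U (a k)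
      have h3 := appS_bc W.ι ((Scheme.Modules.pullback π).map S.f ≫ q) (a k)
      have h4 : appS ((Scheme.Modules.pullback π).map S.f ≫ q) (π ⁻¹ᵁ U) (pbS π S.X₁ (a k)) = sg q e k' := hsg k
      rw [h4] at h3
      refine (congrArg (eβ.hom.app (β ⁻¹ᵁ V)) (Groth.Agent.Fdesc.LocGen.res_pullSec β haA.le (sg qA a k)).symm).trans ?_
      refine (Groth.Agent.Fdesc.LocGen.app_res eβ.hom (β.preimage_mono haA.le) _).trans ?_
      refine (congrArg _ (h2.trans (congrArg _ h3))).trans ?_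
      exact Groth.Agent.Fdesc.LocGen.res_res _ _ _ _
    have E2 : eβ.hom.app (β ⁻¹ᵁ V) ((wmap hβ eβ q τ).app (β ⁻¹ᵁ V) (Groth.Agent.Fdesc.LocGen.pullSec β
        (Groth.Agent.Sga67.Sec.res _ haA.le (pbS πA S.X₃ (b i))))) =
        Groth.Agent.Sga67.Sec.res _ (hle.trans (W.ι.preimage_mono haD.le))
          (pbS W.ι O1 (sg q e (finSumFinEquiv (Sum.inr i)))) := by
      have h1 := app_tr hβ ((Scheme.Modules.pullback π).map τ ≫ q) (b i)
      have h4 : appS ((Scheme.Modules.pullback π).map τ ≫ q) (π ⁻¹ᵁ U) (pbS π S.X₃ (b i)) =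
          sg q e (finSumFinEquiv (Sum.inr i)) := by
        rw [sg, her, appS_comp, appS_pbS]
      have h5 : ∀ z, eβ.hom.app (β ⁻¹ᵁ V) ((wmap hβ eβ q τ).app (β ⁻¹ᵁ V) z) =
          ((Scheme.Modules.pullbackComp β πA).hom.app S.X₃ ≫ (Scheme.Modules.pullbackCongr hβ).hom.app S.X₃ ≫
            (Scheme.Modules.pullbackComp W.ι π).inv.app S.X₃ ≫ (Scheme.Modules.pullback W.ι).map
              ((Scheme.Modules.pullback π).map τ ≫ q)).app (β ⁻¹ᵁ V) z := by
        intro z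
        have h6 : wmap hβ eβ q τ ≫ eβ.hom = (Scheme.Modules.pullbackComp β πA).hom.app S.X₃ ≫
            (Scheme.Modules.pullbackCongr hβ).hom.app S.X₃ ≫
            (Scheme.Modules.pullbackComp W.ι π).inv.app S.X₃ ≫ (Scheme.Modules.pullback W.ι).map
              ((Scheme.Modules.pullback π).map τ ≫ q) := by
          rw [wmap, Category.assoc, Iso.inv_hom_id, Category.comp_id]
        rw [← h6]
        rfl
      rw [h5]
      refine (congrArg _ (Groth.Agent.Fdesc.LocGen.res_pullSec β haA.le (pbS πA S.X₃ (b i))).symm).trans ?_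
      refine (Groth.Agent.Fdesc.LocGen.app_res _ (β.preimage_mono haA.le) _).trans ?_
      refine (congrArg _ h1).trans ?_
      refine (Groth.Agent.Fdesc.LocGen.res_res _ _ _ _).trans ?_
      exact congrArg (fun z => Groth.Agent.Sga67.Sec.res ((Scheme.Modules.pullback W.ι).obj O1)
        (hle.trans (W.ι.preimage_mono haD.le)) (pbS W.ι O1 z)) h4
    have E3 : ρ (aD (finSumFinEquiv (Sum.inr i))) • Groth.Agent.Sga67.Sec.res _
          (hle.trans (W.ι.preimage_mono haD.le)) (pbS W.ι O1 (sg q e k')) =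
        Groth.Agent.Sga67.Sec.res _ (hle.trans (W.ι.preimage_mono haD.le))
          (pbS W.ι O1 (sg q e (finSumFinEquiv (Sum.inr i)))) := by
      have h1 := (haD.pull W.ι rfl hle).eq (finSumFinEquiv (Sum.inr i))
      rw [sg_bc, sg_bc] at h1
      exact h1
    have hinj : Function.Injective (eβ.hom.app (β ⁻¹ᵁ V)) :=
      (ConcreteCategory.bijective_of_isIso (eβ.hom.app (β ⁻¹ᵁ V))).1
    apply hinj
    rw [Scheme.Modules.Hom.app_smul]
    refine E2.trans (E3.symm.trans ?_)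
    exact congrArg _ E1.symm
  · refine bijective_of_bijective (πA.appLE U V haA.le).hom (π.appLE U D haD.le).hom (β.app V).hom ρ.hom aA aD _
      hVbij.2 hDbij hρ ?_ ?_ (fun i => rfl)
    · have h1 : πA.appLE U V haA.le ≫ β.app V = π.appLE U D haD.le ≫ ρ := by
        rw [β.app_eq_appLE, Scheme.Hom.appLE_comp_appLE, Scheme.Hom.appLE_comp_appLE]
        have h2 : ∀ (f f' : (W : Scheme.{u}) ⟶ X) (_ : f = f') (V' : (W : Scheme.{u}).Opens)
            (h : V' ≤ f ⁻¹ᵁ U) (h' : V' ≤ f' ⁻¹ᵁ U), f.appLE U V' h = f'.appLE U V' h' := by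
          rintro f _ rfl V' h h'
          rfl
        exact h2 _ _ hβ _ _ _
      exact congrArg CommRingCat.Hom.hom h1
    · intro i
      have h1 : CoordOn ((Scheme.Modules.pullback π).map S.f ≫ q) a k D
          (fun i => aD (finSumFinEquiv (Sum.inl i))) := by
        refine ⟨haD.le, ?_, fun i => ?_⟩
        · rw [hsg]
          exact haD.gen
        · rw [hsg, hsg]
          exact haD.eq _
      have h2 := h1.pull W.ι rfl hle
      have h3 := (haA.pull β hβ (W' := β ⁻¹ᵁ V) le_rfl).iso eβ hβq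
      have h4 := congrFun (h3.unique h2) i
      simp only [Scheme.Hom.appLE_eq_app] at h4
      exact h4

end Main

end K716.Compl
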