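import Groth.Agent.Curves.K333.FibreVA
import Groth.Agent.Curves.K333.OmegaFam
import Groth.Agent.Curves.K333.PushFree
import Groth.Agent.Dix.InterNum
import Groth.Agent.VarietyA.EulerAdd
import Groth.Agent.Grpsch.PicGrp

/-!
# The anticanonical module of a smooth conic

`field`: on a smooth curve of genus zero over a field the inverse `T` of `Ω` is very ample, without higher cohomology,
and `h⁰(T) = 3`. `isCurve`: a smooth proper morphism whose geometric fibres are integral curves of genus zero.
-/

set_option autoImplicit false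
universe u
open CategoryTheory CategoryTheory.Limits AlgebraicGeometry

namespace K716.ConicFib

open Groth.Agent Groth.Agent.Pi1.H536 K333 K333.Fam

theorem isInverseOf_pullback {X Y : Scheme.{u}} (f : X ⟶ Y) {L M : Y.Modules} (h : ClSub.IsInverseOf L M) :
    ClSub.IsInverseOf ((Scheme.Modules.pullback f).obj L) ((Scheme.Modules.pullback f).obj M) := by
  obtain ⟨hL, hM⟩ := Dix.IdealModCartier.isInvertible_of_isInverseOf h
  have h1 : Grpsch.PicGrp.mk L hL * Grpsch.PicGrp.mk M hM = 1 := (Grpsch.PicGrp.mk_eq_one_iff _).2 h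
  have h2 := congrArg (Grpsch.PicGrp.pull f) h1
  rw [map_mul, map_one, Grpsch.PicGrp.pull_mk, Grpsch.PicGrp.pull_mk] at h2
  exact (Grpsch.PicGrp.mk_eq_one_iff _).1 h2

theorem isInverseOf_congr {X : Scheme.{u}} {L M M' : X.Modules} (h : ClSub.IsInverseOf L M) (e : M ≅ M') :
    ClSub.IsInverseOf L M' := by
  obtain ⟨a⟩ := h
  exact ⟨Ega2.Tens.mapTIso (Iso.refl L) e.symm ≪≫ a⟩

section Field

variable (k : Type u) [Field k] (X : Scheme.{u}) [X.Over (Spec (CommRingCat.of k))]

/-- The inverse of the canonical module of a curve of genus zero. -/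
theorem field (hX : IsCurve (X ↘ (Spec (CommRingCat.of k))) 0) {T : X.Modules}
    (hT : ClSub.IsInverseOf T (Omega.sheaf (X ↘ (Spec (CommRingCat.of k))))) :
    RelAmple.IsRelVeryAmplePn (X ↘ (Spec (CommRingCat.of k))) T ∧
    (∀ q : ℕ, 1 ≤ q → Subsingleton (Coh.HH X T q)) ∧ Module.finrank k (Coh.HH X T 0) = 3 := by
  have i1 := hX.proper
  have i2 := hX.smooth
  have i3 := hX.conn
  have i4 := hX.rel
  have i5 : GeometricallyIntegral (X ↘ (Spec (CommRingCat.of k))) := FibreVA.geometricallyIntegral _
  obtain ⟨-, -, -, hdim, hgen, h0, h2⟩ := hX.field k (𝟙 _) X (𝟙 X) (IsPullback.of_id_fst)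
  have i6 : ConnectedSpace X := GeometricallyConnected.connectedSpace_of_subsingleton
    (X ↘ (Spec (CommRingCat.of k)))
  have i7 : IsIntegral X := CurveFam.isIntegral_of_smooth k (X ↘ (Spec (CommRingCat.of k)))
  have hΩ := (S1612.result k X ⟨i1, i2, i7, hdim⟩ h0).2
  obtain ⟨hTi, -⟩ := Dix.IdealModCartier.isInvertible_of_isInverseOf hT
  have hdeg : Curv2.deg k X T 1 = 2 := by
    rw [Dix.InterNum.deg_inverse k X hdim hT, hΩ, hgen]
    norm_num
  have hH1 : Subsingleton (Coh.HH X T 1) := by
    refine FibreVA.subsingleton_h1 k X hdim h0 _ hTi ?_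
    rw [hgen, hdeg]
    norm_num
  have hH : ∀ q : ℕ, 1 ≤ q → Subsingleton (Coh.HH X T q) := fun q hq => by
    rcases Nat.lt_or_ge 1 q with h1 | h1
    · exact OmegaFam.subsingleton_two k X hX T q h1
    · obtain rfl : q = 1 := by omega
      exact hH1
  refine ⟨?_, hH, ?_⟩
  · obtain ⟨m, i, hi, hp, e⟩ := S1611.result k X hdim h0 _ hTi (by rw [hgen, hdeg]; norm_num)
    exact FibreVA.isRelVeryAmplePn_of_closedImmersion _ _ i hi hp e
  · have e1 := VarietyA.EulerAdd.euler_eq_sum k T 1 hH
    have hO1 : Subsingleton (Coh.HH X (Coh.structureModule X) 1) := by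
      have hf : Module.Finite k (Coh.HH X (Coh.structureModule X) 1) :=
        S0002.result k X _ (CurvesB.UnitCoh.isCoh_structureModule X) 1
      exact Module.finrank_zero_iff.1 hgen
    have e2 := VarietyA.EulerAdd.euler_eq_sum k (Coh.structureModule X) 1 fun q hq => by
      rcases Nat.lt_or_ge 1 q with h1 | h1
      · exact h2 q h1
      · obtain rfl : q = 1 := by omega
        exact hO1
    simp only [Finset.sum_range_one, pow_zero, one_mul] at e1 e2
    rw [Curv2.deg, e1, e2, h0] at hdeg
    push_cast at hdeg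
    omega

end Field

section Family

variable {X S : Scheme.{u}} {f : X ⟶ S}

theorem fibre [IsSeparated f] (hf : IsCurve f 0) {T : X.Modules} (hT : ClSub.IsInverseOf T (Omega.sheaf f)) (K : Type u) [Field K]
    (t : Spec (CommRingCat.of K) ⟶ S) (Y : Scheme.{u}) [Y.Over (Spec (CommRingCat.of K))] (j : Y ⟶ X)
    (H : IsPullback j (Y ↘ Spec (CommRingCat.of K)) f t) :
    RelAmple.IsRelVeryAmplePn (Y ↘ (Spec (CommRingCat.of K))) ((Scheme.Modules.pullback j).obj T) ∧
    (∀ q : ℕ, 1 ≤ q → Subsingleton (Coh.HH Y ((Scheme.Modules.pullback j).obj T) q)) ∧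
      Module.finrank K (Coh.HH Y ((Scheme.Modules.pullback j).obj T) 0) = 3 :=
  field K Y (hf.baseChange H)
    (isInverseOf_congr (isInverseOf_pullback j hT) (Vancyc.H878.RelOmega.omegaBC H))

theorem noH [IsSeparated f] (hf : IsCurve f 0) {T : X.Modules} (hT : ClSub.IsInverseOf T (Omega.sheaf f)) :
    PushFree.NoH f T := by
  intro K _ t Y _ j H q hq
  exact (fibre hf hT K t Y j H).2.1 q hq

/-- A smooth proper morphism whose geometric fibres are integral curves of genus zero. -/
theorem isCurve (f : X ⟶ S) [Smooth f] [IsProper f]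
    (hfib : ∀ (K : Type u) [Field K] [IsAlgClosed K] (x : Spec (CommRingCat.of K) ⟶ S),
      IsIntegral (pullback f x) ∧ topologicalKrullDim ↥(pullback f x) = 1 ∧
        @Curv2.genus K _ (pullback f x) ⟨pullback.snd f x⟩ = 0) : IsCurve f 0 := by
  have hcon : GeometricallyConnected f := by
    refine ⟨fun K _ y Z fst snd h => ?_⟩
    let g : Spec (CommRingCat.of (AlgebraicClosure K)) ⟶ Spec (CommRingCat.of K) :=
      Spec.map (CommRingCat.ofHom (algebraMap K (AlgebraicClosure K)))
    obtain ⟨hi, -, -⟩ := hfib (AlgebraicClosure K) (g ≫ y)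
    let P := pullback f (g ≫ y)
    have hP : IsPullback (pullback.fst f (g ≫ y)) (pullback.snd f (g ≫ y)) f (g ≫ y) := IsPullback.of_hasPullback _ _
    let l : P ⟶ Z := h.lift (pullback.fst f (g ≫ y)) (pullback.snd f (g ≫ y) ≫ g) (by
      rw [Category.assoc]; exact hP.w)
    have hl : IsPullback l (pullback.snd f (g ≫ y)) snd g := by
      refine IsPullback.of_right ?_ (h.lift_snd _ _ _) h
      rw [h.lift_fst]
      exact hP
    have hg : Surjective g := by
      refine ⟨fun x => ⟨IsLocalRing.closedPoint _, Subsingleton.elim _ _⟩⟩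
    have hls : Surjective l := MorphismProperty.of_isPullback hl.flip hg
    have : IsIntegral P := hi
    exact (hls.1).connectedSpace l.continuous
  have key : ∀ s : S, topologicalKrullDim ↥(f.fiber s) = 1 ∧
      letI : (f.fiber s).Over (Spec (S.residueField s)) := ⟨f.fiberToSpecResidueField s⟩
      Curv2.genus (S.residueField s) (f.fiber s) = 0 := by
    intro s
    let k := S.residueField s
    let K := AlgebraicClosure k
    let iF : (f.fiber s).Over (Spec (CommRingCat.of k)) := ⟨f.fiberToSpecResidueField s⟩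
    let g : Spec (CommRingCat.of K) ⟶ Spec (CommRingCat.of k) := Spec.map (CommRingCat.ofHom (algebraMap k K))
    let t : Spec (CommRingCat.of K) ⟶ S := g ≫ S.fromSpecResidueField s
    obtain ⟨-, hd, hgen⟩ := hfib K t
    let iP : (pullback f t).Over (Spec (CommRingCat.of K)) := ⟨pullback.snd f t⟩
    have hP : IsPullback (pullback.fst f t) ((pullback f t) ↘ Spec (CommRingCat.of K)) f t :=
      IsPullback.of_hasPullback _ _
    have H : IsPullback (f.fiberι s) ((f.fiber s) ↘ Spec (CommRingCat.of k)) f (S.fromSpecResidueField s) :=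
      isPullback_fiber f s
    let l : pullback f t ⟶ f.fiber s := H.lift (pullback.fst f t) (pullback.snd f t ≫ g) (by
      rw [Category.assoc]; exact hP.w)
    have hl : IsPullback l ((pullback f t) ↘ Spec (CommRingCat.of K)) ((f.fiber s) ↘ Spec (CommRingCat.of k)) g := by
      refine IsPullback.of_right ?_ (H.lift_snd _ _ _) H
      rw [H.lift_fst]
      exact hP
    refine ⟨?_, ?_⟩
    · rw [← hd]
      exact (CurvesB.VABaseChange.topologicalKrullDim_eq hl).symm
    · have h1 := GenusFam.finrank_eq_betti f k (S.fromSpecResidueField s) (IsLocalRing.closedPoint _) (f.fiberι s) H 1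
      have h2 := GenusFam.finrank_eq_betti f K t (IsLocalRing.closedPoint _) (pullback.fst f t) hP 1
      have h3 : (S.fromSpecResidueField s) (IsLocalRing.closedPoint k) = s := S.fromSpecResidueField_apply s _
      have h4 : t (IsLocalRing.closedPoint K) = s := S.fromSpecResidueField_apply s _
      rw [h3] at h1
      rw [h4] at h2
      exact (h1.trans h2.symm).trans hgen
  exact isCurve_of_fibres f (fun s => (key s).1) 0 (fun s => (key s).2)

end Family

end K716.ConicFib
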