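import Groth.Prelude.Def_FGA
import Groth.Agent.IntSh.K879.ProjB
import Groth.Agent.Vancyc.H175.Leray
import Groth.Agent.Fga.EulerLEAdd
import Groth.Agent.VarietyA.DegRank
import Groth.Agent.S1525
import Groth.Agent.S3796
import Groth.Agent.S3797

/-!
# Euler characteristics of the powers of `O(-1)` on a projective bundle

`π : P ⟶ C` a projective bundle of a module `E` of rank `r + 1` over a connected proper `k`-scheme, `Om` an inverse of
`O(1)`, `D'` an inverse of `det E`. Then `χ(P, O) = χ(C, O)`, `χ(P, Om^i) = 0` for `1 ≤ i ≤ r` and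
`χ(C, D') + (-1)^{r+1} χ(P, Om^{r+1}) = 0`.
-/

set_option autoImplicit false
universe u v
open CategoryTheory CategoryTheory.Limits AlgebraicGeometry TopologicalSpace Opposite

namespace K716.EulerK

open Groth.Agent Groth.Agent.Vancyc.H175.Leray
open Groth.Agent.Krr.H471.ChartVan Groth.Agent.Krr.H471.ChartTwist
open Groth.Agent.Krr.H482.PullLambda Groth.Agent.Krr.H482.PullFinal

section Chi

variable (k : Type u) [Field k] (X : Scheme.{u}) [X.Over (Spec (CommRingCat.of k))]
  [IsProper (X ↘ (Spec (CommRingCat.of k)))]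

/-- The Euler characteristic on the Grothendieck group of vector bundles. -/
noncomputable def chi : SGA6.Kvb X →+ ℤ :=
  Sga67.K0Basic.liftSub (KRR.vbP X) (Curv2.euler k X) fun S hS h1 h2 h3 =>
    isAdd_euler k X S hS (PerfA.CohSerre.isCoh_of_isFinLocFree h1) (PerfA.CohSerre.isCoh_of_isFinLocFree h2)
      (PerfA.CohSerre.isCoh_of_isFinLocFree h3)

theorem chi_cl {F : X.Modules} (hF : FlatMod.IsFinLocFree F) : chi k X (KRR.cl X F) = Curv2.euler k X F :=
  Sga67.K0Basic.liftSub_clSub _ _ hF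

variable {X} {K : Type v} [CommRing K] [LambdaRing.LambdaOps K] {Q : LambdaRing.PosStructure K}
  {φ : SGA6.Kvb X →+ K}

/-- The Euler characteristic on a model of the Grothendieck group. -/
noncomputable def chiM (h : KRR.IsModel X K Q φ) : K →+ ℤ :=
  (chi k X).comp (AddEquiv.ofBijective φ h.bijective).symm.toAddMonoidHom

theorem chiM_cl (h : KRR.IsModel X K Q φ) {F : X.Modules} (hF : FlatMod.IsFinLocFree F) :
    chiM k h (φ (KRR.cl X F)) = Curv2.euler k X F := by
  rw [← chi_cl k X hF]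
  change chi k X ((AddEquiv.ofBijective φ h.bijective).symm (φ (KRR.cl X F))) = _
  congr 1
  exact (AddEquiv.ofBijective φ h.bijective).symm_apply_apply _

end Chi

section Push

variable (k : Type u) [Field k] {X Y : Scheme.{u}} [X.Over (Spec (CommRingCat.of k))]
  [Y.Over (Spec (CommRingCat.of k))] [IsProper (X ↘ (Spec (CommRingCat.of k)))]
  [IsProper (Y ↘ (Spec (CommRingCat.of k)))] {π : X ⟶ Y}
  (hπ : π ≫ (Y ↘ (Spec (CommRingCat.of k))) = X ↘ (Spec (CommRingCat.of k))) {r : ℕ}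
  {E : Y.Modules} {O1 : X.Modules} {q : (Scheme.Modules.pullback π).obj E ⟶ O1} {Om : X.Modules}

include hπ in
theorem euler_W (hE : FlatMod.IsFinLocFreeOfRank (r + 1) E) (hP : KRR.IsProjBundle π E O1 q)
    (hOm : FlatMod.IsFinLocFree Om)
    (hOOm : Nonempty (((DCoh.tensorBi (X := X)).obj O1).obj Om ≅ Coh.structureModule X))
    {G : Y.Modules} (hG : FlatMod.IsFinLocFree G) (i : ℕ) (hi : i ≤ r) :
    Curv2.euler k X (((DCoh.tensorBi (X := X)).obj (W Om i)).obj ((Scheme.Modules.pullback π).obj G)) =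
      if i = 0 then Curv2.euler k Y G else 0 := by
  have hN : IsNoetherian Y := isNoetherian k Y
  have hinj := hasInjectiveResolutions X
  have hprop : IsProper π := isProper_of_over k π hπ
  have hcoh : Coh.IsCoh (((DCoh.tensorBi (X := X)).obj (W Om i)).obj ((Scheme.Modules.pullback π).obj G)) :=
    PerfA.CohSerre.isCoh_of_isFinLocFree
      (Sga67.LocBasis.isFinLocFree_tensorMod (isFinLocFree_W hOm i) (isFinLocFree_pullback π hG))
  rw [Groth.Agent.S1525.result k Y X π hπ _ hcoh]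
  have hz : ∀ p : ℕ, (0 < p ∨ 0 < i) → IsZero ((Coh.Rpush π p).obj (((DCoh.tensorBi (X := X)).obj (W Om i)).obj
      ((Scheme.Modules.pullback π).obj G))) := fun p hp =>
    (K879.ProjB.isZero_Rpush_W hE hP hOm hOOm hG i hi p hp).of_iso
      ((Coh.Rpush π p).mapIso (K879.ProjB.unitIso _).symm)
  have hz' : ∀ p : ℕ, (0 < p ∨ 0 < i) → Curv2.euler k Y ((Coh.Rpush π p).obj
      (((DCoh.tensorBi (X := X)).obj (W Om i)).obj ((Scheme.Modules.pullback π).obj G))) = 0 := fun p hp =>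
    Groth.Agent.Fga.ChiBasic.chi_isZero (isAdd_euler k Y) (hz p hp)
  split_ifs with h0
  · subst h0
    rw [finsum_eq_single _ 0 fun p hp => by rw [hz' p (Or.inl (Nat.pos_of_ne_zero hp)), mul_zero]]
    rw [pow_zero, one_mul]
    obtain ⟨e⟩ := K879.ProjB.nonempty_push_iso (Om := Om) hE hP hG
    exact Groth.Agent.VarietyA.DegRank.euler_iso k ((K879.ProjB.rpushZero π).app _ ≪≫
      (Coh.push π).mapIso (K879.ProjB.unitIso _).symm ≪≫ e)
  · refine finsum_eq_zero_of_forall_eq_zero fun p => ?_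
    rw [hz' p (Or.inr (Nat.pos_of_ne_zero h0)), mul_zero]

end Push

section Models

variable (k : Type u) [Field k] {X Y : Scheme.{u}} [X.Over (Spec (CommRingCat.of k))]
  [Y.Over (Spec (CommRingCat.of k))] [IsProper (X ↘ (Spec (CommRingCat.of k)))]
  [IsProper (Y ↘ (Spec (CommRingCat.of k)))] {π : X ⟶ Y}
  (hπ : π ≫ (Y ↘ (Spec (CommRingCat.of k))) = X ↘ (Spec (CommRingCat.of k))) {r : ℕ}
  {E : Y.Modules} {O1 : X.Modules} {q : (Scheme.Modules.pullback π).obj E ⟶ O1} {Om : X.Modules}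
  {KX : Type v} [CommRing KX] [LambdaRing.LambdaOps KX] {PX : LambdaRing.PosStructure KX}
  {φX : SGA6.Kvb X →+ KX}
  {KY : Type v} [CommRing KY] [LambdaRing.LambdaOps KY] {PY : LambdaRing.PosStructure KY}
  {φY : SGA6.Kvb Y →+ KY} {p : KY →+ KX}

include hπ in
theorem chiM_pull_mul_pow (hE : FlatMod.IsFinLocFreeOfRank (r + 1) E) (hP : KRR.IsProjBundle π E O1 q)
    (hOm : FlatMod.IsFinLocFree Om)
    (hOOm : Nonempty (((DCoh.tensorBi (X := X)).obj O1).obj Om ≅ Coh.structureModule X))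
    (hKX : KRR.IsModel X KX PX φX) (hKY : KRR.IsModel Y KY PY φY)
    (hp : KRR.IsPull π φY φX p) (i : ℕ) (hi : i ≤ r) (y : KY) :
    chiM k hKX (p y * φX (KRR.cl X Om) ^ i) = if i = 0 then chiM k hKY y else 0 := by
  have hN : IsNoetherian Y := isNoetherian k Y
  refine model_induction hKY
    (C := fun y => chiM k hKX (p y * φX (KRR.cl X Om) ^ i) = if i = 0 then chiM k hKY y else 0)
    (fun m G _ hG => ?_) (fun a b ha hb => ?_) y
  · have hG' := isFinLocFree_of_rank hG
    have hW := isFinLocFree_W hOm i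
    have hpG := isFinLocFree_pullback π hG'
    have h1 : p (φY (KRR.cl Y G)) * φX (KRR.cl X Om) ^ i =
        φX (KRR.cl X (((DCoh.tensorBi (X := X)).obj (W Om i)).obj
          ((Scheme.Modules.pullback π).obj G))) := by
      rw [hp G hG', ← K879.ProjB.cl_W hKX hOm, mul_comm]
      exact hKX.map_mul _ _ hW hpG
    rw [h1, chiM_cl k hKY hG']
    exact (chiM_cl k hKX (F := ((DCoh.tensorBi (X := X)).obj (W Om i)).obj ((Scheme.Modules.pullback π).obj G))
      (Sga67.LocBasis.isFinLocFree_tensorMod hW hpG)).trans (euler_W k hπ hE hP hOm hOOm hG' i hi)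
  · rw [map_sub, sub_mul, map_sub, ha, hb, map_sub]
    split_ifs
    · rfl
    · exact sub_zero 0

include hπ in
/-- The top relation. -/
theorem chiM_pow_top [IsNoetherian X] [IsNoetherian Y] [ConnectedSpace X] [ConnectedSpace Y]
    (hE : FlatMod.IsFinLocFreeOfRank (r + 1) E) (hP : KRR.IsProjBundle π E O1 q)
    (hOm : FlatMod.IsFinLocFree Om)
    (hOOm : Nonempty (((DCoh.tensorBi (X := X)).obj O1).obj Om ≅ Coh.structureModule X))
    (hKX : KRR.IsModel X KX PX φX) (hKY : KRR.IsModel Y KY PY φY)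
    (hp : KRR.IsPull π φY φX p) (d' : KY)
    (hd : LambdaRing.LambdaOps.lam (r + 1) (φY (KRR.cl Y E)) * d' = 1) :
    chiM k hKY d' + (-1) ^ (r + 1) * chiM k hKX (φX (KRR.cl X Om) ^ (r + 1)) = 0 := by
  have h1 := congrArg (fun z => chiM k hKX (z * p d')) (K879.ProjB.rel_m hE hP hOm hOOm hKX hKY hp)
  simp only [zero_mul, map_zero, Finset.sum_mul, map_sum] at h1
  rw [Finset.sum_range_succ, Finset.sum_range_succ'] at h1
  have h2 : ∀ i : ℕ, chiM k hKX ((-1 : KX) ^ i * p (LambdaRing.LambdaOps.lam i (φY (KRR.cl Y E))) *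
      φX (KRR.cl X Om) ^ i * p d') = (-1) ^ i *
      chiM k hKX (p (LambdaRing.LambdaOps.lam i (φY (KRR.cl Y E)) * d') * φX (KRR.cl X Om) ^ i) := by
    intro i
    rw [pull_mul hKX hKY hp]
    have h3 : (-1 : KX) ^ i * p (LambdaRing.LambdaOps.lam i (φY (KRR.cl Y E))) *
        φX (KRR.cl X Om) ^ i * p d' = ((-1 : ℤ) ^ i) •
        (p (LambdaRing.LambdaOps.lam i (φY (KRR.cl Y E))) * p d' * φX (KRR.cl X Om) ^ i) := by
      rw [zsmul_eq_mul]
      push_cast
      ring
    rw [h3, map_zsmul, smul_eq_mul]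
  simp only [h2] at h1
  have h4 : ∑ i ∈ Finset.range r, (-1 : ℤ) ^ (i + 1) *
      chiM k hKX (p (LambdaRing.LambdaOps.lam (i + 1) (φY (KRR.cl Y E)) * d') * φX (KRR.cl X Om) ^ (i + 1)) = 0 := by
    refine Finset.sum_eq_zero fun i hi => ?_
    rw [Finset.mem_range] at hi
    rw [chiM_pull_mul_pow k hπ hE hP hOm hOOm hKX hKY hp (i + 1) hi, if_neg (Nat.succ_ne_zero i), mul_zero]
  rw [h4, zero_add, chiM_pull_mul_pow k hπ hE hP hOm hOOm hKX hKY hp 0 (Nat.zero_le _), if_pos rfl, pow_zero,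
    one_mul, LambdaRing.LambdaOps.lam_zero, one_mul, hd, pull_one hKX hKY hp, one_mul] at h1
  exact h1

include hπ in
theorem chiM_pow (hE : FlatMod.IsFinLocFreeOfRank (r + 1) E) (hP : KRR.IsProjBundle π E O1 q)
    (hOm : FlatMod.IsFinLocFree Om)
    (hOOm : Nonempty (((DCoh.tensorBi (X := X)).obj O1).obj Om ≅ Coh.structureModule X))
    (hKX : KRR.IsModel X KX PX φX) (hKY : KRR.IsModel Y KY PY φY)
    (hp : KRR.IsPull π φY φX p) (i : ℕ) (hi : i ≤ r) :
    chiM k hKX (φX (KRR.cl X Om) ^ i) = if i = 0 then chiM k hKY 1 else 0 := by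
  have := chiM_pull_mul_pow k hπ hE hP hOm hOOm hKX hKY hp i hi 1
  rwa [pull_one hKX hKY hp, one_mul] at this

end Models

end K716.EulerK
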