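import Groth.Agent.Krr.H484.PnHom
import Groth.Agent.ASBun.K792.TautMain2
import Groth.Agent.S10960
import Groth.Agent.S1697
import Groth.Agent.S0844
import Groth.Agent.Ega3B.SectExact

/-!
# Automorphisms of `P^m_K` preserve `O(1)`
-/

set_option autoImplicit false
universe u
open CategoryTheory CategoryTheory.Limits AlgebraicGeometry TopologicalSpace Opposite

namespace K716.PnAutO1

open Groth.Agent.Fdesc.LocGen Groth.Agent.Krr.H484.PnHom

variable {m : ℕ} {K : Type u} [Field K]

theorem subsingleton_neg (hm : 1 ≤ m) : Subsingleton Γ(Twist.twistProjSpace m K (-1), ⊤) := by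
  have h := Groth.Agent.S0844.result K m (-1) 0 (by omega) (by omega)
  exact (Groth.Agent.Ega3B.SectExact.secEquiv (Twist.twistProjSpace m K (-1))).symm.toEquiv.subsingleton

theorem not_isGen_zero {X : Scheme.{u}} {L : X.Modules} {V : X.Opens} {x : X} (hx : x ∈ V) :
    ¬ IsGen (0 : Γ(L, V)) := by
  intro h
  have h1 : (1 : Γ(X, V)) = 0 := h.ext (by rw [smul_zero, smul_zero])
  have : Nonempty V := ⟨⟨x, hx⟩⟩
  exact one_ne_zero h1

theorem pull_O1 (hm : 1 ≤ m) (α : CohB1.ProjSpace m K ≅ CohB1.ProjSpace m K) :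
    Nonempty ((Scheme.Modules.pullback α.hom).obj (Twist.twistProjSpace m K 1) ≅ Twist.twistProjSpace m K 1) := by
  obtain ⟨c, hc⟩ := K792.TautMain2.exists_pull_twist hm α.hom
  obtain ⟨c', hc'⟩ := K792.TautMain2.exists_pull_twist hm α.inv
  have hinv : ∀ j, PicF.IsInvertible (Twist.twistProjSpace m K j) := fun j =>
    K792.TautMain2.isInvertible_twist m K j
  have h1 : Nonempty (Twist.twistProjSpace m K 1 ≅ Twist.twistProjSpace m K (c' * c)) := by
    have e1 : α.hom ≫ α.inv = 𝟙 _ := α.hom_inv_id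
    have a1 : (Scheme.Modules.pullback (𝟙 (CohB1.ProjSpace m K))).obj (Twist.twistProjSpace m K 1) ≅
      Twist.twistProjSpace m K 1 := (Scheme.Modules.pullbackId _).app _
    have a2 := (Scheme.Modules.pullbackCongr e1).app (Twist.twistProjSpace m K 1)
    have a3 := (Scheme.Modules.pullbackComp α.hom α.inv).app (Twist.twistProjSpace m K 1)
    have a4 := (Scheme.Modules.pullback α.hom).mapIso (hc' 1).some
    rw [one_mul] at a4
    exact ⟨a1.symm ≪≫ a2.symm ≪≫ a3.symm ≪≫ a4 ≪≫ (hc c').some⟩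
  have h2 : c' * c = 1 := ((Groth.Agent.S10960.result K m hm _ (hinv 1)).unique ⟨Iso.refl _⟩ h1).symm
  have h3 : c = 1 := by
    rcases Int.eq_one_or_neg_one_of_mul_eq_one' h2 with h | h
    · exact h.2
    · exfalso
      have hcneg : c = -1 := h.2
      have a5 := (hc 1).some
      rw [one_mul, hcneg] at a5
      obtain ⟨x⟩ : Nonempty (CohB1.ProjSpace m K) := inferInstance
      have hx0 : x ∈ ⨆ a, Groth.Agent.CurvesC.ProjSpaceBasic.Dp m K a := by
        rw [Groth.Agent.CurvesC.ProjSpaceBasic.iSup_Dp]; trivial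
      obtain ⟨a, hx⟩ := Opens.mem_iSup.1 hx0
      have h4 : a5.hom.app ⊤ (pullTop α.hom (coordSec m K a)) = 0 :=
        (subsingleton_neg (K := K) hm).elim _ _
      have h5 := genLocus_eq α.hom a5 a
      rw [h4] at h5
      have h6 : α.inv x ∈ CohB1.genLocus (Twist.twistProjSpace m K (-1))
          (homOf (0 : Γ(Twist.twistProjSpace m K (-1), ⊤))) := by
        rw [h5]
        change α.hom (α.inv x) ∈ Groth.Agent.CurvesC.ProjSpaceBasic.Dp m K a
        have h7 : α.hom (α.inv x) = x := by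
          have h8 : α.inv ≫ α.hom = 𝟙 (CohB1.ProjSpace m K) := α.inv_hom_id
          rw [← Scheme.Hom.comp_apply, h8]
          rfl
        rw [h7]
        exact hx
      obtain ⟨V, hV, hg⟩ := (mem_genLocus_iff _ _).1 h6
      rw [sec_homOf, map_zero] at hg
      exact not_isGen_zero hV hg
  have h8 := hc 1
  rwa [h3, one_mul] at h8

/-- On `P^r_K` all line bundles of "type `O(1)`" agree. -/
theorem pull_O1' (m : ℕ) (α : CohB1.ProjSpace m K ≅ CohB1.ProjSpace m K) :
    Nonempty ((Scheme.Modules.pullback α.hom).obj (Twist.twistProjSpace m K 1) ≅ Twist.twistProjSpace m K 1) := by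
  rcases Nat.eq_zero_or_pos m with rfl | hm
  · obtain ⟨d, ⟨e⟩⟩ := Groth.Agent.S1697.result K 0 ((Scheme.Modules.pullback α.hom).obj (Twist.twistProjSpace 0 K 1))
      (isInvertible_pullback α.hom (K792.TautMain2.isInvertible_twist 0 K 1))
    obtain ⟨e'⟩ := K792.TautMain2.twist_zero_iso K d 1
    exact ⟨e ≪≫ e'⟩
  · exact pull_O1 hm α

end K716.PnAutO1
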