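import Groth.Agent.Curves.K333.PushOmega
import Groth.Agent.Curves.K333.PushFree
import Groth.Agent.PicF.K248.BCInv
import Groth.Agent.ProjBd.K716.Compl

/-!
# Base change for the direct image of a flat module without higher cohomology on the fibres
-/

set_option autoImplicit false
universe u

open AlgebraicGeometry CategoryTheory CategoryTheory.Limits TopologicalSpace Opposite

namespace K716.PushBC

open Groth.Agent Groth.Agent.CohqA.PullbackUniv Groth.Agent.CohqA.PullbackAffine
  Groth.Agent.CohqA.PullbackSections Groth.Agent.CohqA.AffineBaseChange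
  Groth.Agent.CohqA.BaseChangeMod Groth.Agent.CohqA.PullbackQCoh Groth.Agent.Ega3B K55 K55.Pack K55.KerAlg
  K54.PushSec K54.PushBC K333 K333.PushOmega K333.PushFree
open Groth.Agent.Fdesc.LocGen (pullSec homEquiv_app res)

variable {X S : Scheme.{u}}

theorem good_of_noH (f : X ⟶ S) [IsProper f] [LocallyOfFinitePresentation f] (F : X.Modules) (hF : CohB1.IsFP F)
    (hfl : FlatMod.IsFlatOver f F) (h : NoH f F) (y : S) : Good f F y := by
  obtain ⟨V, hV, hyV, -⟩ := exists_isAffineOpen_mem_and_subset (x := y) (U := ⊤) trivial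
  obtain ⟨K, hK⟩ := exists_compData f F hF hfl hV
  refine ⟨V, hV, K, hyV, secData f _ hV K hK, ?_⟩
  let iO : (f ⁻¹ᵁ V).toScheme.Over (Spec (CommRingCat.of Γ(S, V))) := ⟨Ega3B.PackageAsm.strMap f hV⟩
  have i1 : LocallyOfFinitePresentation ((f ⁻¹ᵁ V).toScheme ↘ Spec (CommRingCat.of Γ(S, V))) :=
    inferInstanceAs (LocallyOfFinitePresentation ((f ∣_ V) ≫ hV.isoSpec.hom))
  have i2 : IsProper ((f ⁻¹ᵁ V).toScheme ↘ Spec (CommRingCat.of Γ(S, V))) :=
    inferInstanceAs (IsProper ((f ∣_ V) ≫ hV.isoSpec.hom))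
  have hFV : CohB1.IsFP (F.restrict (f ⁻¹ᵁ V).ι) := PerfC.FPSections.isFP_restrict _ hF
  have hflV : FlatMod.IsFlatOver ((f ⁻¹ᵁ V).toScheme ↘ Spec (CommRingCat.of Γ(S, V)))
      (F.restrict (f ⁻¹ᵁ V).ι) := by
    refine Ega3B.FlatRestrict.isFlatOver_restrict f _ (f ⁻¹ᵁ V).ι hV.fromSpec ?_ F hfl
    exact (Families.isPullback_strMap f hV).w
  have h0 : ∀ p : ℕ, 1 ≤ p → Subsingleton (K.H p) := fun p hp => by
    obtain ⟨θ, -⟩ := hK p
    have := subsingleton_affine (A := Γ(S, V)) (X := (f ⁻¹ᵁ V).toScheme) (F.restrict (f ⁻¹ᵁ V).ι)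
      hFV hflV (noH_restrict h hV) p hp
    exact θ.symm.toEquiv.subsingleton
  refine projective_O_one K (fun p hp => h0 p (by omega)) ?_
  have := h0 1 le_rfl
  have : Module.Free Γ(S, V) (K.H 1) := Module.Free.of_subsingleton _ _
  infer_instance

variable {X' S' : Scheme.{u}} (f : X ⟶ S) (g : S' ⟶ S) (f' : X' ⟶ S') (g' : X' ⟶ X)

/-- The morphism `g^* f_* F ⟶ f'_* g'^* F` with transpose `f'^* g^* f_* F ≅ g'^* f^* f_* F ⟶ g'^* F`. -/
noncomputable abbrev can (w : g' ≫ f = f' ≫ g) (F : X.Modules) :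
    (Scheme.Modules.pullback g).obj ((Scheme.Modules.pushforward f).obj F) ⟶
      (Scheme.Modules.pushforward f').obj ((Scheme.Modules.pullback g').obj F) :=
  ((Scheme.Modules.pullbackPushforwardAdjunction f').homEquiv _ _)
    ((Scheme.Modules.pullbackComp f' g).hom.app _ ≫
      (Scheme.Modules.pullbackCongr w.symm).hom.app _ ≫
      (Scheme.Modules.pullbackComp g' f).inv.app _ ≫
      (Scheme.Modules.pullback g').map ((Scheme.Modules.pullbackPushforwardAdjunction f).counit.app F))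

/-- The morphism with transpose `can`. -/
noncomputable abbrev canAdj (w : g' ≫ f = f' ≫ g) (F : X.Modules) :
    (Scheme.Modules.pullback f').obj ((Scheme.Modules.pullback g).obj ((Scheme.Modules.pushforward f).obj F)) ⟶
      (Scheme.Modules.pullback g').obj F :=
  (Scheme.Modules.pullbackComp f' g).hom.app _ ≫
      (Scheme.Modules.pullbackCongr w.symm).hom.app _ ≫
      (Scheme.Modules.pullbackComp g' f).inv.app _ ≫
      (Scheme.Modules.pullback g').map ((Scheme.Modules.pullbackPushforwardAdjunction f).counit.app F)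

theorem canAdj_app (w : g' ≫ f = f' ≫ g) (F : X.Modules) (V : S.Opens) (s : Γ(F, f ⁻¹ᵁ V)) :
    (canAdj f g f' g' w F).app (f' ⁻¹ᵁ (g ⁻¹ᵁ V)) (pullSec f' (pullSec g (K248.BC0.toPush f F V s))) =
      Groth.Agent.Fdesc.LocGen.res _ (K248.BC0.preim_eq f g f' g' w V).le (pullSec g' s) := by
  have h2 := K716.Compl.app_tr (β := f') (πA := g) (i := g') (π := f) w.symm
    ((Scheme.Modules.pullbackPushforwardAdjunction f).counit.app F) (K248.BC0.toPush f F V s)
  rw [K248.BCInv.counit_app_pullSec f F V s] at h2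
  exact h2

theorem can_app (w : g' ≫ f = f' ≫ g) (F : X.Modules) (V : S.Opens) (s : Γ(F, f ⁻¹ᵁ V)) :
    (can f g f' g' w F).app (g ⁻¹ᵁ V) (pullSec g (K248.BC0.toPush f F V s)) =
      K248.BC0.toPush f' _ _ (Groth.Agent.Fdesc.LocGen.res _ (K248.BC0.preim_eq f g f' g' w V).le (pullSec g' s)) := by
  have h4 := homEquiv_app f' (canAdj f g f' g' w F) (pullSec g (K248.BC0.toPush f F V s))
  exact h4.trans (canAdj_app f g f' g' w F V s)

/-- The two canonical base change morphisms agree. -/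
theorem can_eq (w : g' ≫ f = f' ≫ g) (F : X.Modules) : can f g f' g' w F = CohBC.bc0 f g f' g' w F := by
  apply Krr.H484.PullExt.ext1
  intro V m
  exact (can_app f g f' g' w F V m).trans (K248.BC0.bc0_app_pullSec f g f' g' w F V m).symm

/-- **Base change.** -/
theorem isIso_can [IsProper f] [LocallyOfFinitePresentation f] (F : X.Modules) (hF : CohB1.IsFP F)
    (hfl : FlatMod.IsFlatOver f F) (h : NoH f F) (hsq : IsPullback g' f' f g) : IsIso (can f g f' g' hsq.w F) := by
  have hq : Coh.IsQCoh F := Models2.FPCoh.isQCoh_of_isFP hF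
  have h1 := (isUniv_iff_isIso g _).1 (isUniv f F hq (good_of_noH f F hF hfl h) g' f' g hsq)
  rw [can_eq]
  exact h1

end K716.PushBC
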