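import Groth.Agent.Krr.H484.PBCharts
import Groth.Agent.Krr.H487.LocBasisPull
import Groth.Agent.Sga67.PushTwist

/-!
# The direct image of `O(1)` of a projective bundle

`isIso_adj`: for a projective bundle `(π : P ⟶ X, O(1), q : π^* E ⟶ O(1))` of a finite locally free module of rank
`r + 1` the adjoint `E ⟶ π_* O(1)` of `q` is an isomorphism.
-/

set_option autoImplicit false
universe u
open CategoryTheory CategoryTheory.Limits AlgebraicGeometry TopologicalSpace Opposite

namespace K716.PushO1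

open Groth.Agent.Sga67.Sec Groth.Agent.Sga67.LocBasis Groth.Agent.Sga67.PnGlobal
open Groth.Agent.Sga67.PushTwist
open Groth.Agent.Fdesc.LocGen (pullSec pullTop pullSec_smul pullSec_add res_pullSec pullback_map_pullSec homOf)
open Groth.Agent.Krr.H484.PullExt Groth.Agent.Krr.H484.PBTransport Groth.Agent.Krr.H484.PBUnique
open Groth.Agent.Krr.H484.FreeSec Groth.Agent.Krr.H484.PnFree Groth.Agent.Krr.H484.PnHom

/-! ### The coordinates form a basis of the direct image -/

section Coord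

variable {r : ℕ}

/-- The exponent of a variable. -/
def ex (i : Fin (r + 1)) : Exp r 1 := ⟨Pi.single i 1, by simp⟩

theorem ex_bijective (r : ℕ) : Function.Bijective (ex (r := r)) := by
  constructor
  · intro i j h
    have h1 := congrFun (congrArg Subtype.val h) i
    simp only [ex, Pi.single_eq_same] at h1
    by_contra hne
    rw [Pi.single_eq_of_ne hne] at h1
    omega
  · rintro ⟨P, hP⟩
    have h1 : ∃ i, P i ≠ 0 := by
      by_contra h
      push Not at h
      simp [h] at hP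
    obtain ⟨i, hi⟩ := h1
    refine ⟨i, Subtype.ext (funext fun j => ?_)⟩
    have h2 := Finset.add_sum_erase Finset.univ P (Finset.mem_univ i)
    have h3 : ∑ j ∈ Finset.univ.erase i, P j = 0 := by omega
    change (Pi.single i 1 : Fin (r + 1) → ℕ) j = P j
    by_cases hj : j = i
    · subst hj
      rw [Pi.single_eq_same]
      omega
    · rw [Pi.single_eq_of_ne hj]
      exact ((Finset.sum_eq_zero_iff.mp h3) j (Finset.mem_erase.mpr ⟨hj, Finset.mem_univ j⟩)).symm

/-- The exponents of the variables. -/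
noncomputable def exEquiv (r : ℕ) : Fin (r + 1) ≃ Exp r 1 := Equiv.ofBijective _ (ex_bijective r)

theorem mono_ex (R : Type u) [CommRing R] (i : Fin (r + 1)) :
    mono R (ex i) = ⟨MvPolynomial.X i, MvPolynomial.isHomogeneous_X R i⟩ := by
  refine Subtype.ext ?_
  change MvPolynomial.monomial (Finsupp.equivFunOnFinite.symm (Pi.single i 1)) 1 = MvPolynomial.X i
  rw [MvPolynomial.X]
  congr 1
  ext j
  simp

theorem msec_ex (R : Type u) [CommRing R] (i : Fin (r + 1)) : msec R (ex i) = coordSec r R i := by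
  have h1 : coordSec r R i = Groth.Agent.CurvesC.TwistGen.glob (CohB1.polyGrading r R)
      (Groth.Agent.CurvesC.ProjSpaceBasic.Xh r R i) := by
    refine (Groth.Agent.CurvesC.ProjSpaceBasic.sec_T r R i ⊤).trans ?_
    exact Groth.Agent.Fdesc.LocGen.res_refl _ _
  rw [h1]
  change Twist.globalOf (CohB1.polyGrading r R) (mono R (ex i)) = _
  rw [mono_ex]
  rfl

variable (T : Scheme.{u})

theorem gsec_ex (i : Fin (r + 1)) : gsec r T (ex i) = coordOver r T i := by
  have h := msec_ex (r := r) (ULift.{u} ℤ) i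
  unfold gsec coordOver
  rw [h]
  rfl

theorem isLocBasis_bsec (n : ℕ) : IsLocBasis (bsec r T n) := by
  have h := (free_isLocBasis T ((n + r).choose r)).of_iso (pushTwistIso r T n)
  have h1 : (fun i => appS (pushTwistIso r T n).hom ⊤ (freeBasis T ((n + r).choose r) i)) = bsec r T n := by
    funext i
    have hf : Sigma.ι (fun _ : Fin ((n + r).choose r) => Coh.structureModule T) i ≫ freeCmp r T n =
        homUnit _ (bsec r T n i) := by simp [freeCmp]
    change appS (freeCmp r T n) ⊤ (freeBasis T _ i) = _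
    rw [freeBasis, ← appS_comp, hf, homUnit_one]
    simp
  rw [h1] at h
  exact h

theorem isLocBasis_coordOver : IsLocBasis (M := (Scheme.Modules.pushforward (KRR.pr r T)).obj
    (Twist.twistOver r T 1)) (U := ⊤) (coordOver r T) := by
  have h := (isLocBasis_bsec (r := r) T 1).reindex ((exEquiv r).trans (enum r 1).symm)
  have h1 : (fun i => bsec r T 1 (((exEquiv r).trans (enum r 1).symm) i)) = coordOver r T := by
    funext i
    rw [← gsec_ex]
    change gsec r T (enum r 1 ((enum r 1).symm (ex i))) = gsec r T (ex i)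
    rw [Equiv.apply_symm_apply]
  rw [h1] at h
  exact h

end Coord

/-! ### Transport along isomorphisms -/

section Transport

variable {S P P₂ : Scheme.{u}}

theorem isLocBasis_push_of_iso (π : P ⟶ S) (h : P₂ ⟶ P) [IsIso h] {O1 : P.Modules} {O2 : P₂.Modules}
    (e : (Scheme.Modules.pullback h).obj O1 ≅ O2) {κ : Type*} [Fintype κ] (t : κ → Γ(O1, ⊤))
    (H : IsLocBasis (M := (Scheme.Modules.pushforward (h ≫ π)).obj O2) (U := ⊤)
      (fun i => e.hom.app ⊤ (pullTop h (t i)))) :
    IsLocBasis (M := (Scheme.Modules.pushforward π).obj O1) (U := ⊤) t := by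
  intro V hV
  let θ : Γ(O1, π ⁻¹ᵁ V) →+ Γ(O2, h ⁻¹ᵁ (π ⁻¹ᵁ V)) :=
    { toFun := fun s => e.hom.app _ (pullSec h s)
      map_zero' := by
        have h1 : pullSec h (0 : Γ(O1, π ⁻¹ᵁ V)) = 0 :=
          map_zero (((Scheme.Modules.pullbackPushforwardAdjunction h).unit.app O1).app _).hom
        rw [h1, map_zero]
      map_add' := fun s s' => by rw [pullSec_add, map_add] }
  have hθ : Function.Bijective θ := by
    have h1 := Groth.Agent.Sga67.PushTwist.pullSec_bijective h O1 (U := π ⁻¹ᵁ V)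
      (by rw [Scheme.Hom.opensRange_of_isIso]; exact le_top)
    exact (ConcreteCategory.bijective_of_isIso (e.hom.app (h ⁻¹ᵁ (π ⁻¹ᵁ V)))).comp h1
  have key : ∀ a : κ → Γ(S, V), θ (comb (M := (Scheme.Modules.pushforward π).obj O1) (U := ⊤) t hV a) =
      comb (M := (Scheme.Modules.pushforward (h ≫ π)).obj O2) (U := ⊤)
        (fun i => e.hom.app ⊤ (pullTop h (t i))) hV a := by
    intro a
    rw [comb_apply, comb_apply]
    refine (map_sum θ _ _).trans ?_
    refine Finset.sum_congr rfl fun i _ => ?_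
    have h1 : pullSec h ((π.app V (a i) : Γ(P, π ⁻¹ᵁ V)) •
        Groth.Agent.Fdesc.LocGen.res O1 (le_top : π ⁻¹ᵁ V ≤ ⊤) (t i)) =
        (h.app _ (π.app V (a i)) : Γ(P₂, h ⁻¹ᵁ (π ⁻¹ᵁ V))) •
          Groth.Agent.Fdesc.LocGen.res _ (le_top : h ⁻¹ᵁ (π ⁻¹ᵁ V) ≤ ⊤) (pullTop h (t i)) := by
      rw [pullSec_smul]
      congr 1
      exact (res_pullSec h (le_top : π ⁻¹ᵁ V ≤ ⊤) (t i)).symm
    refine (congrArg (e.hom.app (h ⁻¹ᵁ (π ⁻¹ᵁ V))) h1).trans ?_
    refine (Scheme.Modules.Hom.app_smul _ _ _).trans ?_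
    rw [Groth.Agent.Fdesc.LocGen.app_res]
    rfl
  have h2 : Function.Bijective (θ ∘ (comb (M := (Scheme.Modules.pushforward π).obj O1) (U := ⊤) t hV)) := by
    have h3 : (θ ∘ (comb (M := (Scheme.Modules.pushforward π).obj O1) (U := ⊤) t hV)) =
      comb (M := (Scheme.Modules.pushforward (h ≫ π)).obj O2) (U := ⊤)
        (fun i => e.hom.app ⊤ (pullTop h (t i))) hV := funext key
    rw [h3]
    exact H V hV
  exact (Function.Bijective.of_comp_iff' hθ _).1 h2

end Transport

/-! ### The free case -/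

section Free

variable {r : ℕ} {S P : Scheme.{u}}

theorem isLocBasis_secs {π : P ⟶ S} {O1 : P.Modules}
    {q : (Scheme.Modules.pullback π).obj (FlatMod.freeMod S (r + 1)) ⟶ O1}
    (B : KRR.IsProjBundle π (FlatMod.freeMod S (r + 1)) O1 q) :
    IsLocBasis (M := (Scheme.Modules.pushforward π).obj O1) (U := ⊤) (secs π q) := by
  obtain ⟨h, hg, e, he⟩ := exists_iso (isProjBundle_over r S) B
  have hq : q = ofSecs π (secs π q) := secs_injective π fun j => by rw [secs_ofSecs]
  have he' : ∀ j, e.hom.app ⊤ (pullTop h.hom (secs π q j)) = coordOver r S j := by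
    have h1 : (Scheme.Modules.pullbackCongr hg).inv.app (FlatMod.freeMod S (r + 1)) ≫
        (Scheme.Modules.pullbackComp h.hom π).inv.app (FlatMod.freeMod S (r + 1)) ≫
        (Scheme.Modules.pullback h.hom).map (ofSecs π (secs π q)) ≫ e.hom = canOver r S := by
      rw [← hq]; exact he
    intro j
    rw [(Groth.Agent.Krr.H484.PnFree.compat_iff π (secs π q) (KRR.pr r S) (canOver r S) h.hom hg e).1 h1 j,
      canOver, secs_ofSecs]
  refine isLocBasis_push_of_iso π h.hom e (secs π q) ?_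
  have h2 : (fun i => e.hom.app ⊤ (pullTop h.hom (secs π q i))) = coordOver r S := funext he'
  rw [h2]
  have h3 := isLocBasis_coordOver (r := r) S
  have key : ∀ (f : KRR.PY r S ⟶ S) (_ : f = KRR.pr r S), IsLocBasis (M := (Scheme.Modules.pushforward f).obj
    (Twist.twistOver r S 1)) (U := ⊤) (coordOver r S) := by
    rintro f rfl
    exact h3
  exact key _ hg

/-- The adjoint of the quotient of a free module is an isomorphism. -/
theorem bijective_adj_free {π : P ⟶ S} {O1 : P.Modules}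
    {q : (Scheme.Modules.pullback π).obj (FlatMod.freeMod S (r + 1)) ⟶ O1}
    (B : KRR.IsProjBundle π (FlatMod.freeMod S (r + 1)) O1 q) (V : S.Opens) :
    Function.Bijective (fun m : Γ(FlatMod.freeMod S (r + 1), V) => q.app (π ⁻¹ᵁ V) (pullSec π m)) := by
  let φ := (Scheme.Modules.pullbackPushforwardAdjunction π).homEquiv _ _ q
  have hφ : ∀ m : Γ(FlatMod.freeMod S (r + 1), V), appS φ V m = q.app (π ⁻¹ᵁ V) (pullSec π m) :=
    fun m => Groth.Agent.Fdesc.LocGen.homEquiv_app π q m
  have h1 := isLocBasis_secs B V le_top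
  have h2 := free_isLocBasis S (r + 1) V le_top
  have h3 : (comb (M := (Scheme.Modules.pushforward π).obj O1) (U := ⊤) (secs π q) (le_top : V ≤ ⊤) : _ → _) =
      (appS φ V) ∘ (comb (freeBasis S (r + 1)) (le_top : V ≤ ⊤)) := by
    funext a
    rw [Function.comp_apply, appS_comb]
    have h4 : (fun i => appS φ ⊤ (freeBasis S (r + 1) i)) = secs π q := by
      funext i
      exact Groth.Agent.Fdesc.LocGen.homEquiv_app_top π q (bas S (r + 1) i)
    rw [h4]
  rw [h3] at h1
  have h5 := (Function.Bijective.of_comp_iff _ h2).1 h1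
  exact ⟨fun a b hab => h5.1 ((hφ a).trans (Eq.trans hab (hφ b).symm)),
    fun z => ⟨(h5.2 z).choose, (hφ _).symm.trans (h5.2 z).choose_spec⟩⟩

end Free

/-! ### The general case -/

section General

variable {r : ℕ} {X P : Scheme.{u}}

theorem bijective_adj {π : P ⟶ X} {E : X.Modules} {O1 : P.Modules}
    {q : (Scheme.Modules.pullback π).obj E ⟶ O1} (B : KRR.IsProjBundle π E O1 q) {W : X.Opens}
    (t : E.restrict W.ι ≅ FlatMod.freeMod (W : Scheme.{u}) (r + 1)) {V : X.Opens} (hV : V ≤ W) :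
    Function.Bijective (fun m : Γ(E, V) => q.app (π ⁻¹ᵁ V) (pullSec π m)) := by
  let f : (W : Scheme.{u}) ⟶ X := W.ι
  have sq : IsPullback (pullback.fst π f) (pullback.snd π f) π f := IsPullback.of_hasPullback π f
  let τ : (Scheme.Modules.pullback f).obj E ≅ FlatMod.freeMod (W : Scheme.{u}) (r + 1) :=
    (Scheme.Modules.restrictFunctorIsoPullback W.ι).symm.app E ≪≫ t
  have B' := of_iso τ (baseChange sq B)
  have h1 := bijective_adj_free B' (f ⁻¹ᵁ V)
  -- without the trivialisation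
  have h2 : Function.Bijective (fun m : Γ((Scheme.Modules.pullback f).obj E, f ⁻¹ᵁ V) =>
      (bcq sq.w q).app (pullback.snd π f ⁻¹ᵁ (f ⁻¹ᵁ V)) (pullSec (pullback.snd π f) m)) := by
    have h3 : (fun m : Γ((Scheme.Modules.pullback f).obj E, f ⁻¹ᵁ V) =>
        (bcq sq.w q).app (pullback.snd π f ⁻¹ᵁ (f ⁻¹ᵁ V)) (pullSec (pullback.snd π f) m)) =
        (fun m : Γ(FlatMod.freeMod (W : Scheme.{u}) (r + 1), f ⁻¹ᵁ V) =>
          ((Scheme.Modules.pullback (pullback.snd π f)).map τ.inv ≫ bcq sq.w q).app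
            (pullback.snd π f ⁻¹ᵁ (f ⁻¹ᵁ V)) (pullSec (pullback.snd π f) m)) ∘ (τ.hom.app (f ⁻¹ᵁ V)) := by
      funext m
      have h4 := pullback_map_pullSec (pullback.snd π f) τ.inv (τ.hom.app (f ⁻¹ᵁ V) m)
      have h5 : τ.inv.app (f ⁻¹ᵁ V) (τ.hom.app (f ⁻¹ᵁ V) m) = m := by
        have h6 : τ.hom ≫ τ.inv = 𝟙 _ := τ.hom_inv_id
        exact congr(($(h6).app (f ⁻¹ᵁ V)) m)
      rw [h5] at h4
      exact (congrArg ((bcq sq.w q).app (pullback.snd π f ⁻¹ᵁ (f ⁻¹ᵁ V))) h4).symm
    rw [h3]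
    exact h1.comp (ConcreteCategory.bijective_of_isIso (τ.hom.app (f ⁻¹ᵁ V)))
  have h3 := Groth.Agent.Sga67.PushTwist.pullSec_bijective f E (U := V)
    (by rw [Scheme.Opens.opensRange_ι]; exact hV)
  have h4 := Groth.Agent.Sga67.PushTwist.pullSec_bijective (pullback.fst π f) O1 (U := π ⁻¹ᵁ V) (by
    rw [Scheme.Hom.opensRange_pullbackFst, Scheme.Opens.opensRange_ι]
    exact π.preimage_mono hV)
  have hle : (pullback.snd π f ≫ f) ⁻¹ᵁ V ≤ (pullback.fst π f ≫ π) ⁻¹ᵁ V := preimage_le sq.w.symm V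
  have hle' : (pullback.fst π f ≫ π) ⁻¹ᵁ V ≤ (pullback.snd π f ≫ f) ⁻¹ᵁ V := preimage_le sq.w V
  have h5 : Function.Bijective (Groth.Agent.Fdesc.LocGen.res ((Scheme.Modules.pullback (pullback.fst π f)).obj O1)
      hle) := Groth.Agent.Sga67.PushTwist.res_bijective_of_eq _ _ (le_antisymm hle hle')
  have h6 : (fun m : Γ((Scheme.Modules.pullback f).obj E, f ⁻¹ᵁ V) =>
      (bcq sq.w q).app (pullback.snd π f ⁻¹ᵁ (f ⁻¹ᵁ V)) (pullSec (pullback.snd π f) m)) ∘ (pullSec f) =
      ((Groth.Agent.Fdesc.LocGen.res ((Scheme.Modules.pullback (pullback.fst π f)).obj O1) hle) ∘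
        (pullSec (pullback.fst π f))) ∘ (fun m : Γ(E, V) => q.app (π ⁻¹ᵁ V) (pullSec π m)) := by
    funext m
    exact bcq_pullSec sq.w q m
  have h7 := h2.comp h3
  rw [h6] at h7
  exact (Function.Bijective.of_comp_iff' (h5.comp h4) _).1 h7

/-- **`E ≅ π_* O(1)` for a projective bundle.** -/
theorem isIso_adj {π : P ⟶ X} {E : X.Modules} {O1 : P.Modules} (hE : FlatMod.IsFinLocFreeOfRank (r + 1) E)
    {q : (Scheme.Modules.pullback π).obj E ⟶ O1} (B : KRR.IsProjBundle π E O1 q) :
    IsIso ((Scheme.Modules.pullbackPushforwardAdjunction π).homEquiv _ _ q) := by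
  refine isIso_of_bijective _ fun x U hx => ?_
  obtain ⟨W, hxW, ⟨t⟩⟩ := hE x
  refine ⟨U ⊓ W, inf_le_left, ⟨hx, hxW⟩, ?_⟩
  have h1 := bijective_adj B t (V := U ⊓ W) inf_le_right
  have h2 : ∀ m : Γ(E, U ⊓ W), appS ((Scheme.Modules.pullbackPushforwardAdjunction π).homEquiv _ _ q) (U ⊓ W) m =
      q.app (π ⁻¹ᵁ (U ⊓ W)) (pullSec π m) := fun m => Groth.Agent.Fdesc.LocGen.homEquiv_app π q m
  exact ⟨fun a b hab => h1.1 ((h2 a).symm.trans (Eq.trans hab (h2 b))),
    fun z => ⟨(h1.2 z).choose, (h2 _).trans (h1.2 z).choose_spec⟩⟩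

end General

end K716.PushO1
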