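import Groth.Agent.ProjBd.K716.PnAutO1
import Groth.Agent.ProjBd.K716.PushO1
import Groth.Agent.Krr.H483.PBTop
import Groth.Agent.Cyc.K307.PBGeom
import Groth.Agent.Brauer.K161.SBGeom
import Groth.Agent.S19476

/-!
# Two structures of projective bundle on the same morphism differ by a twist
-/

set_option autoImplicit false
universe u
open CategoryTheory CategoryTheory.Limits AlgebraicGeometry TopologicalSpace Opposite

namespace K716.TwistOf

open Groth.Agent.Grpsch.PicGrp Groth.Agent.Krr.H484.PBCharts Groth.Agent.Krr.H483.PBTop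
open Groth.Agent.Ega2.QCohLocal Groth.Agent.Fdesc.LocGen

variable {X P P' : Scheme.{u}} {r : ℕ}

theorem geometricallyIntegral_field {π : P ⟶ X} {E : X.Modules}
    {O1 : P.Modules} {q : (Scheme.Modules.pullback π).obj E ⟶ O1} (B : KRR.IsProjBundle π E O1 q)
    (K : Type u) [Field K] (y : Spec (CommRingCat.of K) ⟶ X)
    (t : (Scheme.Modules.pullback y).obj E ≅ FlatMod.freeMod (Spec (CommRingCat.of K)) (r + 1)) :
    GeometricallyIntegral (pullback.snd π y) := by
  obtain ⟨j, sq, -⟩ := exists_chart B (A := K) y t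
  let θ := (IsPullback.of_hasPullback π y).isoIsPullback _ _ sq
  have hθ : θ.hom ≫ CohB1.ProjSpace.toSpec r K = pullback.snd π y :=
    (IsPullback.of_hasPullback π y).isoIsPullback_hom_snd _ _ sq
  rw [← hθ, MorphismProperty.cancel_left_of_respectsIso (@GeometricallyIntegral)]
  exact K161.SBGeom.geometricallyIntegral_toSpec r _

/-- A projective bundle is geometrically integral. -/
theorem geometricallyIntegral {π : P ⟶ X} {E : X.Modules} (hE : FlatMod.IsFinLocFreeOfRank (r + 1) E)
    {O1 : P.Modules} {q : (Scheme.Modules.pullback π).obj E ⟶ O1} (B : KRR.IsProjBundle π E O1 q) :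
    GeometricallyIntegral π := by
  rw [GeometricallyIntegral.iff_geometricallyIntegral_fiber]
  intro s
  obtain ⟨t⟩ := exists_triv_point hE s
  exact geometricallyIntegral_field B (X.residueField s) (X.fromSpecResidueField s) t

theorem exists_fibre_field {π : P ⟶ X} {E E' : X.Modules} {O O' : P.Modules}
    {q : (Scheme.Modules.pullback π).obj E ⟶ O} {q' : (Scheme.Modules.pullback π).obj E' ⟶ O'}
    (B : KRR.IsProjBundle π E O q) (B' : KRR.IsProjBundle π E' O' q')
    (hO : PicF.IsInvertible O) (hO' : PicF.IsInvertible O') (K : Type u) [Field K]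
    (y : Spec (CommRingCat.of K) ⟶ X)
    (t : (Scheme.Modules.pullback y).obj E ≅ FlatMod.freeMod (Spec (CommRingCat.of K)) (r + 1))
    (t' : (Scheme.Modules.pullback y).obj E' ≅ FlatMod.freeMod (Spec (CommRingCat.of K)) (r + 1)) :
    pull (pullback.fst π y) (mk O hO) = pull (pullback.fst π y) (mk O' hO') := by
  obtain ⟨j₁, sq₁, ⟨e₁⟩⟩ := exists_chart B (A := K) y t
  obtain ⟨j₂, sq₂, ⟨e₂⟩⟩ := exists_chart B' (A := K) y t'
  let α : CohB1.ProjSpace r K ≅ CohB1.ProjSpace r K :=
    sq₂.isoIsPullback _ _ sq₁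
  have hα : α.hom ≫ j₁ = j₂ := sq₂.isoIsPullback_hom_fst _ _ sq₁
  obtain ⟨e₃⟩ := K716.PnAutO1.pull_O1' (K := K) r α
  have hinv := K792.TautMain2.isInvertible_twist r K 1
  have h1 : pull j₁ (mk O hO) = mk (Twist.twistProjSpace r K 1) hinv := by
    rw [pull_mk]
    exact mk_congr e₁
  have h2 : pull j₂ (mk O' hO') = mk (Twist.twistProjSpace r K 1) hinv := by
    rw [pull_mk]
    exact mk_congr e₂
  have h3 : pull j₂ (mk O hO) = mk (Twist.twistProjSpace r K 1) hinv := by
    rw [← hα, pull_comp, h1, pull_mk]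
    exact mk_congr e₃
  let θ := (IsPullback.of_hasPullback π y).isoIsPullback _ _ sq₂
  have hθ : θ.hom ≫ j₂ = pullback.fst π y :=
    (IsPullback.of_hasPullback π y).isoIsPullback_hom_fst _ _ sq₂
  rw [← hθ, pull_comp, pull_comp, h3, h2]

/-- On the fibres the two line bundles agree. -/
theorem exists_fibre {π : P ⟶ X} {E E' : X.Modules} (hE : FlatMod.IsFinLocFreeOfRank (r + 1) E)
    (hE' : FlatMod.IsFinLocFreeOfRank (r + 1) E') {O O' : P.Modules}
    {q : (Scheme.Modules.pullback π).obj E ⟶ O} {q' : (Scheme.Modules.pullback π).obj E' ⟶ O'}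
    (B : KRR.IsProjBundle π E O q) (B' : KRR.IsProjBundle π E' O' q')
    (hO : PicF.IsInvertible O) (hO' : PicF.IsInvertible O') (x : X) :
    pull (pullback.fst π (X.fromSpecResidueField x)) (mk O hO) =
      pull (pullback.fst π (X.fromSpecResidueField x)) (mk O' hO') := by
  obtain ⟨t⟩ := exists_triv_point hE x
  obtain ⟨t'⟩ := exists_triv_point hE' x
  exact exists_fibre_field B B' hO hO' (X.residueField x) (X.fromSpecResidueField x) t t'

/-- **Two projective bundle structures on `π` differ by a line bundle of the base.** -/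
theorem exists_twist [IsLocallyNoetherian X] [IsReduced X] {π : P ⟶ X} {E E' : X.Modules}
    (hE : FlatMod.IsFinLocFreeOfRank (r + 1) E)
    (hE' : FlatMod.IsFinLocFreeOfRank (r + 1) E') {O O' : P.Modules}
    {q : (Scheme.Modules.pullback π).obj E ⟶ O} {q' : (Scheme.Modules.pullback π).obj E' ⟶ O'}
    (B : KRR.IsProjBundle π E O q) (B' : KRR.IsProjBundle π E' O' q') :
    ∃ L : X.Modules, FlatMod.IsFinLocFreeOfRank 1 L ∧
      Nonempty (O' ≅ CohB1.tensorMod ((Scheme.Modules.pullback π).obj L) O) := by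
  have hO : PicF.IsInvertible O := isFinLocFreeOfRank_one_iff.1 B.invertible
  have hO' : PicF.IsInvertible O' := isFinLocFreeOfRank_one_iff.1 B'.invertible
  have i1 : IsProper π := K307.PBGeom.isProper hE B
  have i2 : Flat π := K307.PBGeom.flat hE B
  have i3 : GeometricallyIntegral π := geometricallyIntegral hE B
  obtain ⟨N, hN, hNeq⟩ := exists_mk (mk O' hO' * (mk O hO)⁻¹)
  obtain ⟨Z, ι, hι, hZ⟩ := Groth.Agent.S19476.result π N (isFinLocFreeOfRank_one_iff.2 hN)
  have hsurj : Function.Surjective ι := by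
    intro x
    have hj := exists_fibre hE hE' B B' hO hO' x
    have h1 : pull (pullback.fst π (X.fromSpecResidueField x)) (mk N hN) = 1 := by
      rw [← hNeq, map_mul, map_inv, hj, mul_inv_cancel]
    have hT : IsLocallyNoetherian (Spec (X.residueField x)) := inferInstance
    have hI : PicF.IsInvertible (Coh.structureModule (Spec (X.residueField x))) := isInvertible_structureModule
    obtain ⟨u', hu'⟩ := (hZ _ (X.fromSpecResidueField x) hT).2
      ⟨Coh.structureModule _, isFinLocFreeOfRank_one_iff.2 hI, by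
        refine (mk_eq_iff (isInvertible_pullback _ hN) (isInvertible_pullback _ hI)).1 ?_
        rw [← pull_mk _ hN, ← pull_mk _ hI, ← one_def, map_one, h1]⟩
    obtain ⟨pt⟩ : Nonempty (Spec (X.residueField x)) := inferInstance
    refine ⟨u' pt, ?_⟩
    rw [← Scheme.Hom.comp_apply, hu', Scheme.fromSpecResidueField_apply]
  have hsurj' : Surjective ι := ⟨hsurj⟩
  have hiso : IsIso ι := isIso_of_isClosedImmersion_of_surjective ι
  obtain ⟨M, hM, ⟨e⟩⟩ := (hZ X (𝟙 X) inferInstance).1 ⟨inv ι, by simp⟩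
  have hM' : PicF.IsInvertible M := isFinLocFreeOfRank_one_iff.1 hM
  have h2 : pull (pullback.fst π (𝟙 X)) (mk N hN) = pull (pullback.snd π (𝟙 X)) (mk M hM') := by
    rw [pull_mk, pull_mk]
    exact mk_congr e
  let s : P ⟶ pullback π (𝟙 X) := pullback.lift (𝟙 P) π (by simp)
  have h3 : mk N hN = pull π (mk M hM') := by
    have h4 := congrArg (pull s) h2
    rw [← pull_comp, ← pull_comp, pullback.lift_fst, pullback.lift_snd, pull_id] at h4
    exact h4
  have hpM : PicF.IsInvertible ((Scheme.Modules.pullback π).obj M) := isInvertible_pullback π hM'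
  refine ⟨M, hM, (mk_eq_iff hO' (isInvertible_tensorMod hpM hO)).1 ?_⟩
  rw [← mk_mul_mk hpM hO, ← pull_mk π hM', ← h3, ← hNeq, inv_mul_cancel_right]

end K716.TwistOf
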