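import Groth.Agent.ProjBd.K716.VaMono
import Groth.Agent.Krr.H484.FreeSec
import Groth.Agent.Sga67.SerreVB
import Groth.Agent.EGA2.K30.CounitGG

/-!
# Locally very ample modules: the counit is an epimorphism
-/

set_option autoImplicit false
universe u
open CategoryTheory CategoryTheory.Limits AlgebraicGeometry TopologicalSpace Opposite
open Groth.Agent.Fdesc.LocGen

namespace K716.VaGG

open Groth.Agent.Krr.H484.PnHom Groth.Agent.Dix.ProjProper Groth.Agent.K385.VeryAmpleBC
open Groth.Agent.Krr.H484.FreeSec K471.VaNear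

variable {X Y : Scheme.{u}}

theorem isGloballyGenerated_of_va {f : X ⟶ Y} {L : X.Modules} (h : RelAmple.IsRelVeryAmplePn f L) :
    Curv2.IsGloballyGenerated L := by
  obtain ⟨n, φ', -, -, ⟨e''⟩⟩ := h
  let ψ : X ⟶ CohB1.ProjSpace n (ULift.{u} ℤ) := φ' ≫ toZ n Y
  let e : (Scheme.Modules.pullback ψ).obj (Twist.twistProjSpace n (ULift.{u} ℤ) 1) ≅ L :=
    ((Scheme.Modules.pullbackComp φ' (toZ n Y)).app _).symm ≪≫ e''.symm
  let σ : Fin (n + 1) → Γ(L, ⊤) := fun i => e.hom.app ⊤ (pullTop ψ (coordSec n (ULift.{u} ℤ) i))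
  let ψ0 : (Scheme.Modules.pullback (𝟙 X)).obj (FlatMod.freeMod X (n + 1)) ⟶ L := ofSecs (𝟙 X) σ
  have h1 : Epi ψ0 := by
    refine epi_of_genLocus (𝟙 X) ψ0 ?_
    have h2 : ∀ j, secs (𝟙 X) ψ0 j = σ j := fun j => secs_ofSecs (𝟙 X) σ j
    simp only [h2]
    exact iSup_genLocus ψ e
  let p : FlatMod.freeMod X (n + 1) ⟶ L := (Scheme.Modules.pullbackId X).inv.app _ ≫ ψ0
  have h2 : Epi p := epi_comp _ _
  exact Groth.Agent.Sga67.SerreVB.isGloballyGenerated_of_epi_freeMod p

/-- The counit is an epimorphism for a module which is very ample over the members of a cover of the base. -/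
theorem epi_counit (f : X ⟶ Y) (L : X.Modules)
    (hva : ∀ y : Y, ∃ U : Y.Opens, y ∈ U ∧ RelAmple.IsRelVeryAmplePn (f ∣_ U) (L.restrict (f ⁻¹ᵁ U).ι)) :
    Epi ((Scheme.Modules.pullbackPushforwardAdjunction f).counit.app L) := by
  choose U hU h using hva
  exact K30.CounitGG.epi_counit_of_cover f L U (fun x => ⟨f x, hU (f x)⟩)
    fun y => isGloballyGenerated_of_va (h y)

end K716.VaGG
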