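import Groth.Agent.Coherent.K471.VaNear
import Groth.Agent.Krr.H484.PullExt
import Groth.Agent.Sga67.PushTwistA

/-!
# Morphisms to a projective bundle defined by a relatively very ample module

`h : C ⟶ P` over `p : P ⟶ S`, `e : h^* O(1) ≅ T`. If the sections of `T` come from sections of `O(1)` and `T` is very
ample over the open `U` of `S`, then `h` is a monomorphism over `U`; hence a closed immersion if it is proper.
-/

set_option autoImplicit false
universe u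
open CategoryTheory CategoryTheory.Limits AlgebraicGeometry TopologicalSpace Opposite
open Groth.Agent.Fdesc.LocGen

namespace K716.VaMono

open Groth.Agent.Krr.H484.PnHom Groth.Agent.Dix.ProjProper Groth.Agent.K385.VeryAmpleBC
open Groth.Agent.Ega3B.FibreSpread K471.VaNear Groth.Agent.Krr.H484.PullExt

variable {C P S Z : Scheme.{u}}

/-- Morphisms which agree after `h` agree after the morphism to projective space defined by sections which come
from `P`. -/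
theorem comp_eq {n : ℕ} {h : C ⟶ P} {O1 : P.Modules} (t : Fin (n + 1) → Γ(O1, ⊤))
    (φ : C ⟶ CohB1.ProjSpace n (ULift.{u} ℤ))
    (e0 : (Scheme.Modules.pullback φ).obj (Twist.twistProjSpace n (ULift.{u} ℤ) 1) ≅
      (Scheme.Modules.pullback h).obj O1)
    (he : ∀ j, e0.hom.app ⊤ (pullTop φ (coordSec n (ULift.{u} ℤ) j)) = pullTop h (t j))
    (a b : Z ⟶ C) (hab : a ≫ h = b ≫ h) : a ≫ φ = b ≫ φ := by
  have key : ∀ c : Z ⟶ C, ∃ ec : (Scheme.Modules.pullback (c ≫ φ)).obj (Twist.twistProjSpace n (ULift.{u} ℤ) 1) ≅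
      (Scheme.Modules.pullback (c ≫ h)).obj O1,
      ∀ j, ec.hom.app ⊤ (pullTop (c ≫ φ) (coordSec n (ULift.{u} ℤ) j)) = pullTop (c ≫ h) (t j) := by
    intro c
    refine ⟨((Scheme.Modules.pullbackComp c φ).app _).symm ≪≫ (Scheme.Modules.pullback c).mapIso e0 ≪≫
      (Scheme.Modules.pullbackComp c h).app _, fun j => ?_⟩
    have h1 : ((Scheme.Modules.pullbackComp c φ).inv.app
        (Twist.twistProjSpace n (ULift.{u} ℤ) 1)).app ⊤
          (pullTop (c ≫ φ) (coordSec n (ULift.{u} ℤ) j)) =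
        pullTop c (pullTop φ (coordSec n (ULift.{u} ℤ) j)) :=
      pullSec_comp c φ (U := ⊤) (coordSec n (ULift.{u} ℤ) j)
    have h2 : ((((Scheme.Modules.pullbackComp c φ).app
        (Twist.twistProjSpace n (ULift.{u} ℤ) 1)).symm ≪≫
          (Scheme.Modules.pullback c).mapIso e0 ≪≫ (Scheme.Modules.pullbackComp c h).app O1).hom).app ⊤
          (pullTop (c ≫ φ) (coordSec n (ULift.{u} ℤ) j)) =
        ((Scheme.Modules.pullbackComp c h).hom.app O1).app ⊤ (((Scheme.Modules.pullback c).map e0.hom).app ⊤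
          (((Scheme.Modules.pullbackComp c φ).inv.app
            (Twist.twistProjSpace n (ULift.{u} ℤ) 1)).app ⊤
            (pullTop (c ≫ φ) (coordSec n (ULift.{u} ℤ) j)))) := rfl
    rw [h2, h1, map_pullTop, he]
    exact pullTop_comp c h (t j)
  obtain ⟨ea, hea⟩ := key a
  obtain ⟨eb, heb⟩ := key b
  refine toZ_unique ea (eb ≪≫ (Scheme.Modules.pullbackCongr hab.symm).app O1) hea fun j => ?_
  refine Eq.trans ?_ (pullTop_congr hab.symm (t j))
  exact congrArg (((Scheme.Modules.pullbackCongr hab.symm).hom.app O1).app ⊤) (heb j)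

/-- A section over an open, restricted to the open subscheme. -/
theorem exists_sec {X : Scheme.{u}} (V : X.Opens) (M : X.Modules)
    (s : Γ((Scheme.Modules.pullback V.ι).obj M, ⊤)) :
    ∃ m : Γ(M, V), res _ (show (⊤ : V.toScheme.Opens) ≤ V.ι ⁻¹ᵁ V from (V.ι_preimage_self).ge) (pullSec V.ι m) = s := by
  have h1 := Groth.Agent.Sga67.PushTwist.pullSec_bijective V.ι M (U := V) (by rw [Scheme.Opens.opensRange_ι])
  obtain ⟨m, hm⟩ := h1.2 (res _ (show V.ι ⁻¹ᵁ V ≤ ⊤ from le_top) s)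
  refine ⟨m, ?_⟩
  rw [hm, res_res, res_refl]

theorem mono_restrict (h : C ⟶ P) (p : P ⟶ S) {T : C.Modules} {O1 : P.Modules}
    (e : (Scheme.Modules.pullback h).obj O1 ≅ T) (U : S.Opens)
    (hsec : ∀ s : Γ(T, h ⁻¹ᵁ (p ⁻¹ᵁ U)), ∃ t : Γ(O1, p ⁻¹ᵁ U), e.hom.app (h ⁻¹ᵁ (p ⁻¹ᵁ U)) (pullSec h t) = s)
    (hva : RelAmple.IsRelVeryAmplePn ((h ≫ p) ∣_ U) (T.restrict ((h ≫ p) ⁻¹ᵁ U).ι)) :
    Mono (h ∣_ (p ⁻¹ᵁ U)) := by
  obtain ⟨n, φ', hφ', hφb, ⟨e''⟩⟩ := hva
  let V : P.Opens := p ⁻¹ᵁ U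
  let W : C.Opens := h ⁻¹ᵁ V
  let j : W.toScheme ⟶ C := W.ι
  let k : V.toScheme ⟶ P := V.ι
  let h' : W.toScheme ⟶ V.toScheme := h ∣_ V
  have hsq : h' ≫ k = j ≫ h := morphismRestrict_ι h V
  let φ₁ : W.toScheme ⟶ CohB1.ProjSpaceOver n U := φ'
  have hφ₁ : IsImmersion φ₁ := hφ'
  have hφb₁ : φ₁ ≫ CohB1.ProjSpaceOver.toBase n U = h' ≫ (p ∣_ U) := by
    refine hφb.trans ?_
    exact morphismRestrict_comp h p U
  let φ : W.toScheme ⟶ CohB1.ProjSpace n (ULift.{u} ℤ) := φ₁ ≫ toZ n U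
  -- the module on `W`
  let a1 : (Scheme.Modules.pullback φ).obj (Twist.twistProjSpace n (ULift.{u} ℤ) 1) ≅
      (Scheme.Modules.pullback j).obj T :=
    ((Scheme.Modules.pullbackComp φ₁ (toZ n U)).app _).symm ≪≫
      (show (Scheme.Modules.pullback φ₁).obj ((Scheme.Modules.pullback (toZ n U)).obj
        (Twist.twistProjSpace n (ULift.{u} ℤ) 1)) ≅ T.restrict j from e''.symm) ≪≫
      (Scheme.Modules.restrictFunctorIsoPullback j).app T
  have hs := fun i => exists_sec W T (a1.hom.app ⊤ (pullTop φ (coordSec n (ULift.{u} ℤ) i)))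
  choose s hs using hs
  choose t ht using fun i => hsec (s i)
  let t' : Fin (n + 1) → Γ((Scheme.Modules.pullback k).obj O1, ⊤) := fun i =>
    res _ (show (⊤ : V.toScheme.Opens) ≤ V.ι ⁻¹ᵁ V from (V.ι_preimage_self).ge) (pullSec k (t i))
  let a2 : (Scheme.Modules.pullback j).obj T ≅ (Scheme.Modules.pullback h').obj ((Scheme.Modules.pullback k).obj O1) :=
    (Scheme.Modules.pullback j).mapIso e.symm ≪≫ (Scheme.Modules.pullbackComp j h).app O1 ≪≫
      (Scheme.Modules.pullbackCongr hsq.symm).app O1 ≪≫ ((Scheme.Modules.pullbackComp h' k).app O1).symm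
  have hle : j ⁻¹ᵁ (h ⁻¹ᵁ V) ≤ h' ⁻¹ᵁ (k ⁻¹ᵁ V) := preimage_le hsq.symm V
  have htop : (⊤ : W.toScheme.Opens) ≤ j ⁻¹ᵁ W := (W.ι_preimage_self).ge
  have ha2 : ∀ x : Γ(O1, V), a2.hom.app (j ⁻¹ᵁ (h ⁻¹ᵁ V)) (pullSec j (e.hom.app (h ⁻¹ᵁ V) (pullSec h x))) =
      res ((Scheme.Modules.pullback h').obj ((Scheme.Modules.pullback k).obj O1)) hle
        (pullSec h' (pullSec k x)) := by
    intro x
    have h1 : ((Scheme.Modules.pullback j).map e.inv).app (j ⁻¹ᵁ (h ⁻¹ᵁ V))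
        (pullSec j (e.hom.app (h ⁻¹ᵁ V) (pullSec h x))) = pullSec j (pullSec h x) := by
      rw [pullback_map_pullSec]
      congr 1
      exact congr(($(e.hom_inv_id).app (h ⁻¹ᵁ V)) (pullSec h x))
    have h2 := comp_hom_pullSec j h x
    have h3 := congr_pullSec hsq.symm x
    have h4 := comp_inv_pullSec h' k x
    have h5 : a2.hom.app (j ⁻¹ᵁ (h ⁻¹ᵁ V)) (pullSec j (e.hom.app (h ⁻¹ᵁ V) (pullSec h x))) =
        ((Scheme.Modules.pullbackComp h' k).inv.app O1).app (j ⁻¹ᵁ (h ⁻¹ᵁ V))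
          (((Scheme.Modules.pullbackCongr hsq.symm).hom.app O1).app (j ⁻¹ᵁ (h ⁻¹ᵁ V))
            (((Scheme.Modules.pullbackComp j h).hom.app O1).app (j ⁻¹ᵁ (h ⁻¹ᵁ V))
              (((Scheme.Modules.pullback j).map e.inv).app (j ⁻¹ᵁ (h ⁻¹ᵁ V))
                (pullSec j (e.hom.app (h ⁻¹ᵁ V) (pullSec h x)))))) := rfl
    rw [h5, h1, h2]
    refine (congrArg (((Scheme.Modules.pullbackComp h' k).inv.app O1).app (j ⁻¹ᵁ (h ⁻¹ᵁ V))) h3).trans ?_
    refine (app_res ((Scheme.Modules.pullbackComp h' k).inv.app O1) hle (pullSec (h' ≫ k) x)).trans ?_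
    exact congrArg _ h4
  have he : ∀ i, (a1 ≪≫ a2).hom.app ⊤ (pullTop φ (coordSec n (ULift.{u} ℤ) i)) = pullTop h' (t' i) := by
    intro i
    have h1 : (a1 ≪≫ a2).hom.app ⊤ (pullTop φ (coordSec n (ULift.{u} ℤ) i)) =
        a2.hom.app ⊤ (a1.hom.app ⊤ (pullTop φ (coordSec n (ULift.{u} ℤ) i))) := rfl
    have h2 : a2.hom.app ⊤ (res ((Scheme.Modules.pullback j).obj T) htop (pullSec j (s i))) =
        res ((Scheme.Modules.pullback h').obj ((Scheme.Modules.pullback k).obj O1)) htop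
          (a2.hom.app (j ⁻¹ᵁ W) (pullSec j (s i))) := app_res a2.hom htop (pullSec j (s i))
    have h3 := ha2 (t i)
    rw [ht i] at h3
    have h4 : pullTop h' (t' i) = res ((Scheme.Modules.pullback h').obj ((Scheme.Modules.pullback k).obj O1))
        (htop.trans hle) (pullSec h' (pullSec k (t i))) :=
      (res_pullSec h' (show (⊤ : V.toScheme.Opens) ≤ V.ι ⁻¹ᵁ V from (V.ι_preimage_self).ge) (pullSec k (t i))).symm
    rw [h1, ← hs i, h4]
    refine h2.trans ?_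
    refine (congrArg (res ((Scheme.Modules.pullback h').obj ((Scheme.Modules.pullback k).obj O1)) htop) h3).trans ?_
    exact res_res _ _ _ _
  refine ⟨fun {Z} a b hab => ?_⟩
  rw [← cancel_mono φ₁]
  refine (isPullback_toZ n U).hom_ext ?_ ?_
  · rw [Category.assoc, Category.assoc]
    exact comp_eq t' φ (a1 ≪≫ a2) he a b hab
  · rw [Category.assoc, Category.assoc, hφb₁, ← Category.assoc, ← Category.assoc]
    exact congrArg (· ≫ (p ∣_ U)) hab

/-- **Closed immersions defined by relatively very ample modules.** -/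
theorem isClosedImmersion (h : C ⟶ P) (p : P ⟶ S) [IsProper h] {T : C.Modules} {O1 : P.Modules}
    (e : (Scheme.Modules.pullback h).obj O1 ≅ T)
    (hsec : ∀ (U : S.Opens) (s : Γ(T, h ⁻¹ᵁ (p ⁻¹ᵁ U))), ∃ t : Γ(O1, p ⁻¹ᵁ U),
      e.hom.app (h ⁻¹ᵁ (p ⁻¹ᵁ U)) (pullSec h t) = s)
    (hva : ∀ x : S, ∃ U : S.Opens, x ∈ U ∧
      RelAmple.IsRelVeryAmplePn ((h ≫ p) ∣_ U) (T.restrict ((h ≫ p) ⁻¹ᵁ U).ι)) : IsClosedImmersion h := by
  choose U hxU hU using hva
  have hcov : ⨆ x : S, p ⁻¹ᵁ (U x) = ⊤ := by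
    rw [eq_top_iff]
    intro y _
    exact TopologicalSpace.Opens.mem_iSup.2 ⟨p y, hxU (p y)⟩
  rw [IsZariskiLocalAtTarget.iff_of_iSup_eq_top (P := @IsClosedImmersion) (fun x : S => p ⁻¹ᵁ (U x)) hcov]
  intro x
  have h1 : Mono (h ∣_ (p ⁻¹ᵁ (U x))) := mono_restrict h p e (U x) (hsec (U x)) (hU x)
  have h2 : IsProper (h ∣_ (p ⁻¹ᵁ (U x))) := inferInstance
  exact (IsClosedImmersion.iff_isProper_and_mono _).2 ⟨h2, h1⟩

end K716.VaMono
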